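import Groth.Agent.HilbPoly.Pos
import Groth.Agent.AssPtX.Noeth
import Groth.Agent.AmpleX.Proj
import Groth.Agent.S10915
import Groth.Agent.Lib.RegEpiPn

/-!
# Hyperplanes avoiding associated points
-/

set_option autoImplicit false
set_option linter.style.haveILetI false
set_option linter.unusedSectionVars false
set_option backward.isDefEq.respectTransparency false
set_option backward.isDefEq.respectTransparency.types false
set_option maxHeartbeats 1000000

universe u

open CategoryTheory CategoryTheory.Limits AlgebraicGeometry TopologicalSpace Opposite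

noncomputable section

namespace Groth.Agent.HilbBound

open Groth.Agent

variable {k : Type u} [Field k] {n : ℕ}

/-- Finitely many points of projective space avoid a hyperplane. -/
theorem exists_sec_avoiding [Infinite k] (Z : Set (CohB1.ProjSpace n k)) (hZ : Z.Finite) :
    ∃ s : Coh.structureModule (CohB1.ProjSpace n k) ⟶ Twist.twistProjSpace n k 1,
      ∀ x ∈ Z, x ∈ CohB1.genLocus (Twist.twistProjSpace n k 1) s := by
  classical
  obtain ⟨l, hl, hlP⟩ := S10915.exists_avoiding k n
    ((fun x : CohB1.ProjSpace n k =>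
      (x : ProjectiveSpectrum (CohB1.polyGrading n k)).asHomogeneousIdeal.toIdeal) '' Z) (hZ.image _) (by
    rintro _ ⟨x, -, rfl⟩
    refine ⟨(x : ProjectiveSpectrum (CohB1.polyGrading n k)).isPrime,
      (x : ProjectiveSpectrum (CohB1.polyGrading n k)).asHomogeneousIdeal.isHomogeneous, fun h => ?_⟩
    refine (x : ProjectiveSpectrum (CohB1.polyGrading n k)).not_irrelevant_le fun a ha => ?_
    refine h.ge ?_
    refine (Ideal.span_le.2 ?_) (SegreX.irrelevant_le_span n k ha)
    rintro _ ⟨i, rfl⟩
    exact MvPolynomial.constantCoeff_X k i)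
  have hl1 : l ∈ CohB1.polyGrading n k 1 := (MvPolynomial.mem_homogeneousSubmodule 1 l).2 hl
  refine ⟨InvX.ofSect (ProjUPX.sec (CohB1.polyGrading n k) hl1), fun x hx => ?_⟩
  show x ∈ CohB1.genLocus (Twist.twist (CohB1.polyGrading n k) 1) _
  rw [AmpleX.genLocus_sec (CohB1.polyGrading n k) (ProjRegular.coords k n) ProjRegular.coords_mem
    ProjRegular.coords_cover hl1]
  exact hlP _ ⟨x, hx, rfl⟩

variable {X : Scheme.{u}}

/-- Multiplication by a section invertible at all associated points is injective. -/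
theorem mono_mulHom {N : X.Modules} (s : Coh.structureModule X ⟶ N) {G : X.Modules} (hG : Coh.IsQCoh G)
    (h : ∀ x, Curv2.IsWeakAssPoint G x → x ∈ CohB1.genLocus N s) : Mono (HilbPoly.mulHom s G) := by
  refine QCoh.mono_of_app_injective _ fun V => ?_
  refine (injective_iff_map_eq_zero ((HilbPoly.mulHom s G).app V).hom).2 fun t ht => ?_
  refine AssPtX.eq_zero_of_germ hG t fun y hy hya => ?_
  obtain ⟨U, hU, hyU⟩ : ∃ U : X.Opens, IsIso ((Scheme.Modules.restrictFunctor U.ι).map s) ∧ y ∈ U :=
    Opens.mem_sSup.1 (h y hya)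
  haveI : IsIso ((Scheme.Modules.restrictFunctor U.ι).map s) := hU
  haveI := HilbPoly.isIso_restrict_mulHom s G (U := U)
  let W : X.Opens := U.ι ''ᵁ (U.ι ⁻¹ᵁ V)
  have hW : W ≤ V := (Scheme.Hom.image_preimage_le _ _)
  have hinj : Function.Injective ((HilbPoly.mulHom s G).app W) :=
    (ConcreteCategory.bijective_of_isIso
      (((Scheme.Modules.restrictFunctor U.ι).map (HilbPoly.mulHom s G)).app (U.ι ⁻¹ᵁ V))).1
  have hnat : (HilbPoly.mulHom s G).app W (G.presheaf.map (homOfLE hW).op t) = 0 := by
    have h1 := ConcreteCategory.congr_hom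
      ((HilbPoly.mulHom s G).mapPresheaf.naturality (homOfLE hW).op) t
    refine h1.trans ?_
    show (CohB1.tensorMod G N).presheaf.map _ ((HilbPoly.mulHom s G).app V t) = 0
    rw [show (HilbPoly.mulHom s G).app V t = 0 from ht, map_zero]
  have hres : G.presheaf.map (homOfLE hW).op t = 0 := hinj (hnat.trans (map_zero _).symm)
  have hyW : y ∈ W := ⟨⟨y, hyU⟩, hy, rfl⟩
  rw [← G.presheaf.germ_res_apply (homOfLE hW) y hyW t, hres, map_zero]

/-- The cokernel of multiplication by a section lives off the generating locus. -/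
theorem support_cokernel_mulHom {N : X.Modules} (s : Coh.structureModule X ⟶ N) {G : X.Modules}
    (hT : Coh.IsQCoh (CohB1.tensorMod G N)) (hC : Coh.IsQCoh (cokernel (HilbPoly.mulHom s G))) :
    CohB1.support (cokernel (HilbPoly.mulHom s G)) ⊆ CohB1.support G \ CohB1.genLocus N s := by
  refine fun x hx => ⟨HilbPoly.support_tensor_subset G N (QCoh.support_of_epi hT hC (cokernel.π _) hx), fun hxs => ?_⟩
  obtain ⟨U, hU, hxU⟩ : ∃ U : X.Opens, IsIso ((Scheme.Modules.restrictFunctor U.ι).map s) ∧ x ∈ U :=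
    Opens.mem_sSup.1 hxs
  haveI : IsIso ((Scheme.Modules.restrictFunctor U.ι).map s) := hU
  haveI := HilbPoly.isIso_restrict_mulHom s G (U := U)
  exact HilbPoly.notMem_support_of_isZero_restrict (HilbPoly.isZero_restrict_cokernel U _) hxU hx

/-- A closed subset missing the generic points of a closed set is smaller. -/
theorem dim_lt_of_avoid [IsNoetherian X] {A B : Set X} (hA : IsClosed A) (hB : IsClosed B) (hBA : B ⊆ A)
    (hmax : ∀ y ∈ A, (∀ z ∈ A, z ⤳ y → z = y) → y ∉ B) {d : ℕ}
    (h : topologicalKrullDim ↥A < ((d + 1 : ℕ) : WithBot ℕ∞)) :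
    topologicalKrullDim ↥B < (d : WithBot ℕ∞) := by
  by_contra hc
  rw [not_lt] at hc
  haveI : Nonempty (IrreducibleCloseds ↥B) := by
    by_contra he
    rw [not_nonempty_iff] at he
    rw [topologicalKrullDim, Order.krullDim_eq_bot] at hc
    exact absurd hc (not_le_of_gt (WithBot.bot_lt_coe _))
  obtain ⟨p, hp⟩ := Order.le_krullDim_iff.1 hc
  let q : LTSeries (IrreducibleCloseds X) :=
    p.map _ (IrreducibleCloseds.map_strictMono_of_isInducing
      (Topology.IsInducing.subtypeVal : Topology.IsInducing (Subtype.val : B → X)))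
  have hqB : (q.last : Set X) ⊆ B := by
    intro x hx
    rw [LTSeries.last_map] at hx
    exact closure_minimal (Subtype.coe_image_subset B _) hB hx
  obtain ⟨η, hη⟩ := QuasiSober.sober q.last.isIrreducible q.last.isClosed
  have hηB : η ∈ B := hqB hη.mem
  obtain ⟨ξ, hξA, hξη, hξmax⟩ : ∃ ξ, ξ ∈ A ∧ ξ ⤳ η ∧ ∀ z ∈ A, z ⤳ ξ → z = ξ := by
    obtain ⟨Z, hZirr, hηZ, hZmax⟩ := exists_preirreducible ({⟨η, hBA hηB⟩} : Set ↥A)
      (Set.subsingleton_singleton.isPreirreducible)
    have hZi : IsIrreducible Z := ⟨⟨_, hηZ rfl⟩, hZirr⟩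
    have hZc : IsClosed Z := by
      have := hZmax (closure Z) hZi.closure.2 subset_closure
      rw [← this]
      exact isClosed_closure
    have hvi : IsIrreducible (Subtype.val '' Z) := hZi.image _ continuous_subtype_val.continuousOn
    have hvc : IsClosed (Subtype.val '' Z) := hA.isClosedEmbedding_subtypeVal.isClosedMap _ hZc
    obtain ⟨ξ, hξ⟩ := QuasiSober.sober hvi hvc
    obtain ⟨ξ', hξ', rfl⟩ := hξ.mem
    refine ⟨ξ'.1, ξ'.2, hξ.specializes ⟨_, hηZ rfl, rfl⟩, fun z hz hzξ => ?_⟩
    have hsub : Z ⊆ closure {(⟨z, hz⟩ : A)} := fun w hw => by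
      refine (Topology.IsInducing.subtypeVal.specializes_iff (f := (Subtype.val : A → X))).1 ?_ |>.mem_closure
      exact hzξ.trans (hξ.specializes ⟨w, hw, rfl⟩)
    have hcl := hZmax _ isIrreducible_singleton.closure.2 hsub
    have hzZ : (⟨z, hz⟩ : A) ∈ Z := hcl ▸ subset_closure rfl
    exact (hzξ.antisymm (hξ.specializes ⟨_, hzZ, rfl⟩)).eq
  let C : IrreducibleCloseds X := ⟨closure {ξ}, isIrreducible_singleton.closure, isClosed_closure⟩
  have hlt : q.last < C := by
    refine lt_of_le_of_ne (fun x hx => (hξη.trans (hη.specializes hx)).mem_closure) fun he => hmax ξ hξA hξmax ?_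
    exact hqB (he ▸ subset_closure (Set.mem_singleton ξ))
  have hlen := H23.TopDim.length_le_dim_subset (q.snoc C hlt) (S := A) (by
    rw [RelSeries.last_snoc]
    exact hA.closure_subset_iff.2 (Set.singleton_subset_iff.2 hξA))
  have hq : q.length = d := hp
  rw [RelSeries.snoc_length, hq] at hlen
  exact absurd hlen (not_le_of_gt h)

end Groth.Agent.HilbBound

end
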