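import Groth.Agent.HilbBound.Hyperplane
import Groth.Agent.Lib.RegDescent
import Groth.Agent.CurveCohLib.Proper
import Groth.Agent.CurveCohLib.Rank
import Groth.Agent.PnCoh.Chow.Proper

/-!
# A uniform bound for the regularity of subsheaves

A subsheaf `G` of a `0`-regular module `E` is regular in a degree depending only on the Euler
characteristics of `G`, on a bound for the sections of `E` and on the dimension of the support.
-/

set_option autoImplicit false
set_option linter.style.haveILetI false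
set_option linter.unusedSectionVars false
set_option backward.isDefEq.respectTransparency false
set_option backward.isDefEq.respectTransparency.types false
set_option maxHeartbeats 1000000

universe u

open CategoryTheory CategoryTheory.Limits AlgebraicGeometry TopologicalSpace Opposite

noncomputable section

namespace Groth.Agent.HilbBound

open Groth.Agent Groth.Agent.RegEpi Groth.Agent.PnCoh.Finite

section General

variable {k : Type u} [Field k] {X : Scheme.{u}} [X.Over (Spec (CommRingCat.of k))]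

/-- The dimension of a cohomology group. -/
def dimH (M : X.Modules) (i : ℕ) : ℕ :=
  Module.finrank k (Coh.HH X M i)

theorem dimH_congr {M N : X.Modules} (e : M ≅ N) (i : ℕ) : dimH (k := k) M i = dimH (k := k) N i :=
  (RegDescent.HHequiv (k := k) e i).finrank_eq

theorem euler_eq_single {M : X.Modules} (h : ∀ i, 1 ≤ i → Subsingleton (Coh.HH X M i)) :
    Curv2.euler k X M = (dimH (k := k) M 0 : ℤ) := by
  show (∑ᶠ i : ℕ, (-1 : ℤ) ^ i * (Module.finrank k (Coh.HH X M i) : ℤ)) = _
  rw [finsum_eq_single _ 0 fun i hi => ?_, pow_zero, one_mul, dimH]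
  haveI := h i (by omega)
  rw [Module.finrank_zero_of_subsingleton, Nat.cast_zero, mul_zero]

theorem euler_eq_two {M : X.Modules} (h : ∀ i, 2 ≤ i → Subsingleton (Coh.HH X M i)) :
    Curv2.euler k X M = (dimH (k := k) M 0 : ℤ) - (dimH (k := k) M 1 : ℤ) := by
  rw [CurveCohLib.euler_eq_sum h, Finset.sum_range_succ, Finset.sum_range_one, dimH, dimH]
  ring

theorem euler_eq_zero {M : X.Modules} (h : IsZero M) : Curv2.euler k X M = 0 := by
  rw [CurveCohLib.euler_eq_sum (N := 0) fun i _ => Euler.subsingleton_HH_of_isZero h i, Finset.sum_range_zero]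

theorem dimH_le_of_shortExact {S : ShortComplex X.Modules} (hS : S.ShortExact)
    (h : Module.Finite k (Coh.HH X S.X₂ 0)) : dimH (k := k) S.X₁ 0 ≤ dimH (k := k) S.X₂ 0 := by
  haveI := h
  exact LinearMap.finrank_le_finrank_of_injective (PnDual.HHlin_f_injective (k := k) hS)

theorem mulHom_naturality_gen {X : Scheme.{u}} {N : X.Modules} (s : Coh.structureModule X ⟶ N)
    {M M' : X.Modules} (φ : M ⟶ M') :
    φ ≫ HilbPoly.mulHom s M' = HilbPoly.mulHom s M ≫ (AmpleVan.tw N).map φ := by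
  show φ ≫ (AmpleVan.twUnit.inv.app M' ≫ (DCoh.tensorBi.obj M').map s) =
    (AmpleVan.twUnit.inv.app M ≫ (DCoh.tensorBi.obj M).map s) ≫ (DCoh.tensorBi.map φ).app N
  exact (Category.assoc _ _ _).symm.trans ((congrArg (· ≫ _) (AmpleVan.twUnit.inv.naturality φ)).trans
    ((Category.assoc _ _ _).trans ((congrArg (AmpleVan.twUnit.inv.app M ≫ ·)
      ((DCoh.tensorBi.map φ).naturality s).symm).trans (Category.assoc _ _ _).symm)))

/-- A subsheaf restricts to a subsheaf of the hyperplane section. -/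
theorem exists_mono_cokernel {C : Type*} [Category C] [Abelian C] (T : C ⥤ C) [T.Additive] [T.PreservesMonomorphisms]
    {M M' F : C} {μ : M ⟶ T.obj M} {μ' : M' ⟶ T.obj M'} {μ'' : F ⟶ T.obj F} [Mono μ'']
    (φ : M ⟶ M') (ψ : M' ⟶ F) (w : φ ≫ ψ = 0) (hex : (ShortComplex.mk φ ψ w).ShortExact)
    (hφ : φ ≫ μ' = μ ≫ T.map φ) (hψ : ψ ≫ μ'' = μ' ≫ T.map ψ) :
    ∃ γ : cokernel μ ⟶ cokernel μ', Mono γ := by
  haveI := hex.mono_f
  haveI : Mono (T.map φ) := T.map_mono φ
  refine ⟨cokernel.map μ μ' φ (T.map φ) hφ.symm, Preadditive.mono_of_cancel_zero _ fun {A} a ha => ?_⟩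
  obtain ⟨A', π, hπ, b, hb⟩ := surjective_up_to_refinements_of_epi (cokernel.π μ) a
  have h1 : (b ≫ T.map φ) ≫ cokernel.π μ' = 0 := by
    rw [Category.assoc, ← cokernel.π_desc μ (T.map φ ≫ cokernel.π μ')
      (by rw [← Category.assoc, ← hφ, Category.assoc, cokernel.condition, comp_zero]), ← Category.assoc, ← hb,
      Category.assoc]
    exact (congrArg (π ≫ ·) ha).trans comp_zero
  obtain ⟨A'', π', hπ', c, hc⟩ := (ShortComplex.exact_of_g_is_cokernel
    (ShortComplex.mk μ' (cokernel.π _) (cokernel.condition _))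
    (cokernelIsCokernel _)).exact_up_to_refinements (b ≫ T.map φ) h1
  dsimp at c hc
  have hw : T.map φ ≫ T.map ψ = 0 := by
    rw [← Functor.map_comp, w, Functor.map_zero]
  have hcψ : c ≫ ψ = 0 := by
    rw [← cancel_mono μ'', zero_comp, Category.assoc, hψ, ← Category.assoc, ← hc, Category.assoc, Category.assoc]
    rw [hw]
    rw [comp_zero, comp_zero]
  obtain ⟨d, hd⟩ := hex.exact.lift' c hcψ
  dsimp at d hd
  have hdb : π' ≫ b = d ≫ μ := by
    rw [← cancel_mono (T.map φ), Category.assoc, Category.assoc, ← hφ, ← Category.assoc d,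
      hd]
    exact hc
  haveI := hπ; haveI := hπ'
  rw [← cancel_epi π, comp_zero, ← cancel_epi π', comp_zero, hb, ← Category.assoc, hdb, Category.assoc,
    cokernel.condition, comp_zero]

end General

/-- The Euler characteristics of the twists. -/
def chi {k : Type u} [Field k] {n : ℕ} (M : (CohB1.ProjSpace n k).Modules) (j : ℤ) : ℤ :=
  Curv2.euler k (CohB1.ProjSpace n k) (CohB1.tensorMod M (Twist.twistProjSpace n k j))

instance projOver {k : Type u} [Field k] {n : ℕ} :
    (Proj (CohB1.polyGrading n k)).Over (Spec (CommRingCat.of k)) :=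
  inferInstanceAs ((CohB1.ProjSpace n k).Over (Spec (CommRingCat.of k)))

/-- The dimension of the sections of the twists. -/
def h0 {k : Type u} [Field k] {n : ℕ} (M : (Proj (CohB1.polyGrading n k)).Modules) (j : ℤ) : ℕ :=
  dimH (k := k) ((twF (k := k) (n := n) j).obj M) 0

section Proj

variable {k : Type u} [Field k] {n : ℕ}

local notation "PP" => Proj (CohB1.polyGrading n k)

instance isProper_over : IsProper (PP ↘ Spec (CommRingCat.of k)) :=
  PnCoh.Chow.isProper_toSpec n k

theorem isCoh_tw {M : (Proj (CohB1.polyGrading n k)).Modules} (hM : Coh.IsCoh M) (j : ℤ) :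
    Coh.IsCoh ((twF j).obj M) :=
  ProjRegular.isCoh_twistBy hM j

theorem h1_eq (M : (Proj (CohB1.polyGrading n k)).Modules) (j : ℤ) :
    RegDescent.h1 (k := k) M j = dimH (k := k) ((twF j).obj M) 1 :=
  Eq.refl (RegDescent.h1 (k := k) M j)

theorem chi_eq (M : (Proj (CohB1.polyGrading n k)).Modules) (j : ℤ) :
    chi (k := k) (n := n) M j = Curv2.euler k PP ((twF j).obj M) :=
  rfl

theorem chi_add {S : ShortComplex (Proj (CohB1.polyGrading n k)).Modules} (hS : S.ShortExact)
    (h₁ : Coh.IsCoh S.X₁) (h₂ : Coh.IsCoh S.X₂) (h₃ : Coh.IsCoh S.X₃) (j : ℤ) :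
    chi (k := k) (n := n) S.X₂ j = chi (k := k) (n := n) S.X₁ j + chi (k := k) (n := n) S.X₃ j := by
  rw [chi_eq, chi_eq, chi_eq]
  exact CurveCohLib.euler_additive (k := k) (S := RegDescent.twSeq (𝒜 := CohB1.polyGrading n k) S j)
    (RegDescent.twSeq_exact (ProjRegular.coords k n) ProjRegular.coords_mem ProjRegular.coords_cover hS j)
    (isCoh_tw h₁ j) (isCoh_tw h₂ j) (isCoh_tw h₃ j)

theorem chi_Tw (M : (Proj (CohB1.polyGrading n k)).Modules) (a b : ℤ) :
    chi (k := k) (n := n) ((twF a).obj M) b = chi (k := k) (n := n) M (a + b) := by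
  obtain ⟨e⟩ := twF_twF_iso (k := k) (n := n) M a b (a + b) rfl
  rw [chi_eq, chi_eq]
  exact CurveCohLib.euler_congr (k := k) e

theorem h0_Tw (M : (Proj (CohB1.polyGrading n k)).Modules) (a b : ℤ) :
    h0 ((twF a).obj M) b = h0 M (a + b) := by
  obtain ⟨e⟩ := twF_twF_iso (k := k) (n := n) M a b (a + b) rfl
  exact dimH_congr (k := k) e 0

theorem subsingleton_of_regular {M : (Proj (CohB1.polyGrading n k)).Modules} (hM : Coh.IsCoh M) {m : ℤ}
    (h : Curv2.IsMRegular k n M m) {q : ℕ} (hq : 1 ≤ q) {j : ℤ} (hj : m - q ≤ j) :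
    Subsingleton (Coh.HH PP ((twF j).obj M) q) := by
  rcases le_or_gt q n with hqn | hqn
  · obtain ⟨e, he⟩ : ∃ e : ℕ, (e : ℤ) = j + q - m := ⟨(j + q - m).toNat, Int.toNat_of_nonneg (by omega)⟩
    have h' := ProjRegular.isMRegular_add hM h e q hq hqn
    rwa [show m + (e : ℤ) - (q : ℤ) = j by omega] at h'
  · exact ProjRegular.subsingleton_HH_high (k := k) (n := n) hM j q hqn

theorem isMRegular_mono {M : (Proj (CohB1.polyGrading n k)).Modules} (hM : Coh.IsCoh M) {m m' : ℤ} (hm : m ≤ m')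
    (h : Curv2.IsMRegular k n M m) : Curv2.IsMRegular k n M m' :=
  fun q hq _ => subsingleton_of_regular hM h hq (by omega)

theorem isMRegular_of_iso {M N : (Proj (CohB1.polyGrading n k)).Modules} (e : M ≅ N) {m : ℤ}
    (h : Curv2.IsMRegular k n M m) : Curv2.IsMRegular k n N m :=
  fun q hq hqn => QCoh.subsingleton_HH_of_iso ((twF (m - (q : ℤ))).mapIso e) q (h q hq hqn)

/-- Without cohomology above degree zero the Euler characteristic counts sections. -/
theorem chi_eq_h0 {M : (Proj (CohB1.polyGrading n k)).Modules} (hM : Coh.IsCoh M)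
    (h : Curv2.IsMRegular k n M 0) {j : ℤ} (hj : -1 ≤ j) : chi (k := k) (n := n) M j = (h0 M j : ℤ) := by
  rw [chi_eq]
  exact euler_eq_single fun i hi => subsingleton_of_regular hM h hi (by omega)

/-- Multiplication by a section of `O(1)`. -/
def mu (s : Coh.structureModule PP ⟶ Twist.twist (CohB1.polyGrading n k) 1)
    (M : (Proj (CohB1.polyGrading n k)).Modules) : M ⟶ (twF 1).obj M :=
  HilbPoly.mulHom s M

theorem mulHom_naturality (s : Coh.structureModule PP ⟶ Twist.twist (CohB1.polyGrading n k) 1)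
    {M M' : (Proj (CohB1.polyGrading n k)).Modules} (φ : M ⟶ M') :
    φ ≫ mu s M' = mu s M ≫ (twF 1).map φ :=
  mulHom_naturality_gen s φ

theorem mono_mu (s : Coh.structureModule PP ⟶ Twist.twist (CohB1.polyGrading n k) 1)
    {M : (Proj (CohB1.polyGrading n k)).Modules} (hM : Coh.IsCoh M)
    (h : ∀ x, Curv2.IsWeakAssPoint M x → x ∈ CohB1.genLocus (Twist.twist (CohB1.polyGrading n k) 1) s) :
    Mono (mu s M) :=
  mono_mulHom s hM.1 h

theorem support_cokernel_mu (s : Coh.structureModule PP ⟶ Twist.twist (CohB1.polyGrading n k) 1)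
    {M : (Proj (CohB1.polyGrading n k)).Modules} (hM : Coh.IsCoh M) :
    CohB1.support ((twF (-1)).obj (cokernel (mu s M))) ⊆
      CohB1.support M \ CohB1.genLocus (Twist.twist (CohB1.polyGrading n k) 1) s := by
  haveI : IsNoetherian PP := Proj16.isNoetherian_proj _
  have h1 : Coh.IsCoh ((twF 1).obj M) := isCoh_tw hM 1
  exact (HilbPoly.support_tensor_subset _ _).trans
    (support_cokernel_mulHom s h1.1 (QCoh.isCoh_cokernel hM.1 h1 (mu s M)).1)

theorem finite_weakAss {M : (Proj (CohB1.polyGrading n k)).Modules} (hM : Coh.IsCoh M) :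
    {x : PP | Curv2.IsWeakAssPoint M x}.Finite := by
  haveI : IsNoetherian PP := Proj16.isNoetherian_proj _
  exact (AssPtX.finite_assPoints hM (U := ⊤) isCompact_univ).subset fun x hx =>
    ⟨trivial, AssPtX.isAssPoint_iff.2 hx⟩

/-- The invariants of the quotient of `M → M(1)`. -/
theorem chi_quotient {M : (Proj (CohB1.polyGrading n k)).Modules} (hM : Coh.IsCoh M) (μ : M ⟶ (twF 1).obj M)
    [Mono μ] (t : ℤ) :
    chi (k := k) (n := n) ((twF (-1)).obj (cokernel μ)) t =
      chi (k := k) (n := n) M t - chi (k := k) (n := n) M (t - 1) := by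
  haveI : IsNoetherian PP := Proj16.isNoetherian_proj _
  have h1 := isCoh_tw hM 1
  have h := chi_add (k := k) (n := n) (S := ShortComplex.mk μ (cokernel.π μ) (cokernel.condition μ))
    (.mk' (ShortComplex.exact_of_g_is_cokernel _ (cokernelIsCokernel μ)) inferInstance inferInstance) hM h1
    (QCoh.isCoh_cokernel hM.1 h1 μ) (-1 + t)
  dsimp only at h
  rw [chi_Tw, show (1 : ℤ) + (-1 + t) = t by ring] at h
  rw [chi_Tw, show t - 1 = -1 + t by ring]
  omega

/-- The quotient of `E → E(1)`, twisted back, is regular again. -/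
theorem isMRegular_quotient {E : (Proj (CohB1.polyGrading n k)).Modules} (hE : Coh.IsCoh E)
    (hreg : Curv2.IsMRegular k n E 0) (μ : E ⟶ (twF 1).obj E) [Mono μ] :
    Curv2.IsMRegular k n ((twF (-1)).obj (cokernel μ)) 0 := by
  intro q hq hqn
  obtain ⟨e⟩ := twF_twF_iso (k := k) (n := n) (cokernel μ) (-1) (0 - (q : ℤ)) (-1 + (0 - (q : ℤ))) rfl
  refine QCoh.subsingleton_HH_of_iso e.symm q ?_
  have hS := RegDescent.twSeq_exact (ProjRegular.coords k n) ProjRegular.coords_mem ProjRegular.coords_cover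
    (S := ShortComplex.mk μ (cokernel.π μ) (cokernel.condition μ))
    (.mk' (ShortComplex.exact_of_g_is_cokernel _ (cokernelIsCokernel μ)) inferInstance inferInstance)
    (-1 + (0 - (q : ℤ)))
  refine subsingleton_HH_X₃ hS q ?_ (subsingleton_of_regular hE hreg (q := q + 1) (by omega) (by push_cast; omega))
  obtain ⟨e'⟩ := twF_twF_iso (k := k) (n := n) E 1 (-1 + (0 - (q : ℤ))) (1 + (-1 + (0 - (q : ℤ)))) rfl
  exact QCoh.subsingleton_HH_of_iso e'.symm q (subsingleton_of_regular hE hreg hq (by omega))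

/-- The hyperplane section, as a subsheaf, with its numerical invariants. -/
theorem exists_restriction [Infinite k] {G E : (Proj (CohB1.polyGrading n k)).Modules} (φ : G ⟶ E) [Mono φ]
    (hG : Coh.IsCoh G) (hE : Coh.IsCoh E) (hreg : Curv2.IsMRegular k n E 0) {d : ℕ}
    (hdim : HilbPoly.DimLT E (d + 1)) :
    ∃ (G' E' : (Proj (CohB1.polyGrading n k)).Modules) (φ' : G' ⟶ E') (ι : (twF (-1)).obj G ⟶ G),
      Mono φ' ∧ Coh.IsCoh G' ∧ Coh.IsCoh E' ∧ Curv2.IsMRegular k n E' 0 ∧ HilbPoly.DimLT E' d ∧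
      Mono ι ∧ Nonempty (cokernel ι ≅ G') ∧
      (∀ t, chi (k := k) (n := n) G' t = chi (k := k) (n := n) G t - chi (k := k) (n := n) G (t - 1)) ∧
      (∀ j : ℕ, h0 E' (j : ℤ) ≤ h0 E (j : ℤ)) := by
  haveI : IsNoetherian PP := Proj16.isNoetherian_proj _
  have hF : Coh.IsCoh (cokernel φ) := QCoh.isCoh_cokernel hG.1 hE φ
  obtain ⟨s, hs⟩ := exists_sec_avoiding (k := k) (n := n) ({x : PP | Curv2.IsWeakAssPoint G x} ∪
    {x | Curv2.IsWeakAssPoint E x} ∪ {x | Curv2.IsWeakAssPoint (cokernel φ) x})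
    (((finite_weakAss hG).union (finite_weakAss hE)).union (finite_weakAss hF))
  let μ : G ⟶ (twF 1).obj G := mu s G
  let μ' : E ⟶ (twF 1).obj E := mu s E
  let μ'' : cokernel φ ⟶ (twF 1).obj (cokernel φ) := mu s (cokernel φ)
  haveI hm : Mono μ := mono_mu s hG fun x hx => hs x (Or.inl (Or.inl hx))
  haveI hm' : Mono μ' := mono_mu s hE fun x hx => hs x (Or.inl (Or.inr hx))
  haveI hm'' : Mono μ'' := mono_mu s hF fun x hx => hs x (Or.inr hx)
  obtain ⟨γ, hγ⟩ := exists_mono_cokernel (twF (k := k) (n := n) 1) (μ := μ) (μ' := μ') (μ'' := μ'') φ (cokernel.π φ) (cokernel.condition φ)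
    (.mk' (ShortComplex.exact_of_g_is_cokernel _ (cokernelIsCokernel φ)) inferInstance inferInstance)
    (mulHom_naturality s φ) (mulHom_naturality s (cokernel.π φ))
  haveI := hγ
  have hG1 := isCoh_tw hG 1
  have hE1 := isCoh_tw hE 1
  have hCG : Coh.IsCoh (cokernel μ) := QCoh.isCoh_cokernel hG.1 hG1 μ
  have hCE : Coh.IsCoh (cokernel μ') := QCoh.isCoh_cokernel hE.1 hE1 μ'
  obtain ⟨eG⟩ := twF_twF_iso (k := k) (n := n) G 1 (-1) 0 (by norm_num)
  obtain ⟨eG'⟩ := twF_zero_iso (k := k) (n := n) G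
  let ι : (twF (-1)).obj G ⟶ G := (twF (-1)).map μ ≫ (eG ≪≫ eG').hom
  haveI : Mono ((twF (k := k) (n := n) (-1)).map μ) := Functor.map_mono _ _
  haveI : Mono ι := mono_comp _ _
  haveI : Mono ((twF (k := k) (n := n) (-1)).map γ) := Functor.map_mono _ _
  refine ⟨(twF (-1)).obj (cokernel μ), (twF (-1)).obj (cokernel μ'), (twF (-1)).map γ, ι, inferInstance,
    isCoh_tw hCG _, isCoh_tw hCE _, isMRegular_quotient hE hreg μ', ?_, inferInstance,
    ⟨cokernelCompIsIso _ _ ≪≫ (PreservesCokernel.iso (twF (k := k) (n := n) (-1)) μ).symm⟩,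
    fun t => chi_quotient hG μ t, fun j => ?_⟩
  · have hsupp := fun (x : PP) (hx : x ∈ CohB1.support ((twF (-1)).obj (cokernel μ'))) =>
      support_cokernel_mu s hE hx
    refine dim_lt_of_avoid (QCoh.isClosed_support_of_isFT hE.1 hE.2)
      (QCoh.isClosed_support_of_isFT (isCoh_tw hCE (-1)).1 (isCoh_tw hCE (-1)).2)
      (fun x hx => (hsupp x hx).1) (fun y hy hmax hyB => ?_) hdim
    exact (hsupp y hyB).2 (hs y (Or.inl (Or.inr (AssPtX.isWeakAssPoint_of_maximal hE.1 hy hmax))))
  · have h1 := chi_eq_h0 (isCoh_tw hCE (-1)) (isMRegular_quotient hE hreg μ') (j := (j : ℤ)) (by omega)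
    rw [chi_quotient hE μ', chi_eq_h0 hE hreg (by omega), chi_eq_h0 hE hreg (by omega)] at h1
    omega

end Proj

/-- The uniform bound. -/
theorem exists_regularity_bound (n d : ℕ) (R : Polynomial ℚ) (b : ℕ → ℕ) :
    ∃ m : ℤ, 1 ≤ m ∧ ∀ (k : Type u) [Field k] [Infinite k] (G E : (Proj (CohB1.polyGrading n k)).Modules)
      (φ : G ⟶ E), Mono φ → Coh.IsCoh G → Coh.IsCoh E → Curv2.IsMRegular k n E 0 → HilbPoly.DimLT E d →
      (∀ t : ℤ, (chi (k := k) (n := n) G t : ℚ) = R.eval (t : ℚ)) → (∀ j : ℕ, h0 E (j : ℤ) ≤ b j) →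
      Curv2.IsMRegular k n G m := by
  induction d generalizing R b with
  | zero =>
    refine ⟨1, le_rfl, fun k _ _ G E φ _ hG hE _ hdim _ _ => ?_⟩
    have hempty : CohB1.support E = ∅ := by
      by_contra h
      obtain ⟨x, hx⟩ := Set.nonempty_iff_ne_empty.2 h
      haveI : Nonempty (IrreducibleCloseds ↥(CohB1.support E)) :=
        ⟨⟨closure {⟨x, hx⟩}, isIrreducible_singleton.closure, isClosed_closure⟩⟩
      exact absurd (Order.krullDim_nonneg (α := IrreducibleCloseds ↥(CohB1.support E))) (not_le_of_gt hdim)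
    have hzE : IsZero E := (AssPtX.isZero_iff hE.1).2 fun x hx => by
      have := AssPtX.mem_support_of_isWeakAssPoint hx
      rw [hempty] at this
      exact this
    have hz : IsZero G := IsZero.of_mono φ hzE
    intro q hq hqn
    exact Euler.subsingleton_HH_of_isZero ((twF ((1 : ℤ) - (q : ℤ))).map_isZero hz) q
  | succ d ih =>
    obtain ⟨m₁, hm₁, hm⟩ := ih (R - R.comp (Polynomial.X - Polynomial.C 1)) b
    refine ⟨m₁ + ⌈|(b (m₁ - 1).toNat : ℚ) - R.eval ((m₁ - 1 : ℤ) : ℚ)|⌉.toNat, by omega,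
      fun k _ _ G E φ _ hG hE hreg hdim hR hb => ?_⟩
    obtain ⟨G', E', φ', ι, hφ', hG', hE', hreg', hdim', hι, ⟨e⟩, hchi, hh⟩ := exists_restriction φ hG hE hreg hdim
    have hregG' := hm k G' E' φ' hφ' hG' hE' hreg' hdim' (fun t => by
      rw [hchi, Int.cast_sub, hR, hR, Polynomial.eval_sub, Polynomial.eval_comp, Polynomial.eval_sub,
        Polynomial.eval_X, Polynomial.eval_C, Int.cast_sub, Int.cast_one]) (fun j => (hh j).trans (hb j))
    obtain ⟨T⟩ : Nonempty (RegDescent.Setup G (cokernel ι) m₁) :=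
      ⟨{ ι := ι, π := cokernel.π ι, w := cokernel.condition ι,
         exact := ShortComplex.ShortExact.mk' (ShortComplex.exact_of_g_is_cokernel _ (cokernelIsCokernel ι))
           hι inferInstance,
         cohF := hG, cohG := SheafHomX.isCoh_of_iso e.symm hG', reg := isMRegular_of_iso e.symm hregG',
         finH1 := fun j => projSpace_finite_HH n k _ (isCoh_tw hG j) 1 }⟩
    let t1 : ℕ := RegDescent.h1 (k := k) G (m₁ - 1)
    have hregG : Curv2.IsMRegular k n G (m₁ + t1) := by
      intro i hi hin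
      rcases Nat.lt_or_ge i 2 with h | h
      · obtain rfl : i = 1 := by omega
        exact RegDescent.subsingleton_one T _ (by push_cast; omega)
      · exact RegDescent.subsingleton_high T i h _ (by omega)
    refine isMRegular_mono hG ?_ hregG
    have hsum : chi (k := k) (n := n) G (m₁ - 1) = (h0 G (m₁ - 1) : ℤ) - (t1 : ℤ) := by
      have h := euler_eq_two (k := k) (M := (twF (m₁ - 1)).obj G)
        fun i hi => RegDescent.subsingleton_high T i hi (m₁ - 1) (by omega)
      rw [chi_eq, h, ← h1_eq]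
      rfl
    have hle : h0 G (m₁ - 1) ≤ h0 E (m₁ - 1) := by
      haveI : Mono φ := ‹_›
      unfold h0
      exact dimH_le_of_shortExact (k := k)
        (S := RegDescent.twSeq (𝒜 := CohB1.polyGrading n k)
          (ShortComplex.mk φ (cokernel.π φ) (cokernel.condition φ)) (m₁ - 1))
        (RegDescent.twSeq_exact (ProjRegular.coords k n) ProjRegular.coords_mem ProjRegular.coords_cover
          (S := ShortComplex.mk φ (cokernel.π φ) (cokernel.condition φ))
          (.mk' (ShortComplex.exact_of_g_is_cokernel _ (cokernelIsCokernel φ)) inferInstance inferInstance) (m₁ - 1))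
        (projSpace_finite_HH n k _ (isCoh_tw hE (m₁ - 1)) 0)
    have hb' : h0 E (m₁ - 1) ≤ b (m₁ - 1).toNat := by
      have := hb (m₁ - 1).toNat
      rwa [Int.toNat_of_nonneg (by omega)] at this
    have h2 : (t1 : ℚ) ≤ (b (m₁ - 1).toNat : ℚ) - R.eval ((m₁ - 1 : ℤ) : ℚ) := by
      rw [← hR, hsum, Int.cast_sub, Int.cast_natCast, Int.cast_natCast]
      have : (h0 G (m₁ - 1) : ℚ) ≤ (b (m₁ - 1).toNat : ℚ) := by exact_mod_cast hle.trans hb'
      linarith
    have h3 : (t1 : ℤ) ≤ ⌈|(b (m₁ - 1).toNat : ℚ) - R.eval ((m₁ - 1 : ℤ) : ℚ)|⌉ := by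
      exact_mod_cast (h2.trans (le_abs_self _)).trans (Int.le_ceil _)
    omega

end Groth.Agent.HilbBound

end
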