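import Groth.Agent.HilbBound.Field
import Groth.Agent.HilbPoly.Poly
import Groth.Agent.HilbPoly.Stab
import Groth.Agent.PruferCoh.Closed
import Groth.Agent.AVEuler.Split
import Groth.Agent.FamHom.Pull
import Groth.Agent.AmpleVan.ThickPush
import Groth.Agent.GGFF.Descent
import Groth.Agent.AmpleX.Generated
import Groth.Agent.S1647

/-!
# Quotients of free modules on a closed subscheme of projective space
-/

set_option autoImplicit false
set_option linter.style.haveILetI false
set_option linter.unusedSectionVars false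
set_option backward.isDefEq.respectTransparency false
set_option backward.isDefEq.respectTransparency.types false
set_option maxHeartbeats 1000000

universe u

open CategoryTheory CategoryTheory.Limits AlgebraicGeometry TopologicalSpace

noncomputable section

namespace Groth.Agent.HilbBound

open Groth.Agent Groth.Agent.RegEpi Groth.Agent.PnCoh.Finite Groth.Agent.H23.PicMul

section Abstract

variable {C : Type*} [Category C] [Abelian C] {A B D : C} (u : A ⟶ B) (v : B ⟶ D)

/-- The kernel of a composite. -/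
abbrev kernelCompSeq : ShortComplex C :=
  ShortComplex.mk
    (kernel.lift (u ≫ v) (kernel.ι u) (by rw [← Category.assoc, kernel.condition, zero_comp]))
    (kernel.lift v (kernel.ι (u ≫ v) ≫ u) (by rw [Category.assoc, kernel.condition]))
    (by refine (cancel_mono (kernel.ι v)).1 ?_
        rw [Category.assoc, kernel.lift_ι, kernel.lift_ι_assoc]
        exact (kernel.condition u).trans zero_comp.symm)

theorem shortExact_kernelComp [Epi u] : (kernelCompSeq u v).ShortExact := by
  haveI : Mono (kernelCompSeq u v).f := mono_of_mono_fac (kernel.lift_ι (u ≫ v) (kernel.ι u) _)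
  haveI : Epi (kernelCompSeq u v).g := by
    rw [epi_iff_surjective_up_to_refinements]
    intro T b
    obtain ⟨T', π, hπ, a, ha⟩ := surjective_up_to_refinements_of_epi u (b ≫ kernel.ι v)
    refine ⟨T', π, hπ, kernel.lift (u ≫ v) a ?_, ?_⟩
    · rw [← Category.assoc, ← ha, Category.assoc, Category.assoc, kernel.condition, comp_zero, comp_zero]
    · rw [← cancel_mono (kernel.ι v), Category.assoc, Category.assoc, kernel.lift_ι, kernel.lift_ι_assoc, ha]
  refine ShortComplex.ShortExact.mk' ?_ ‹_› ‹_›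
  rw [ShortComplex.exact_iff_exact_up_to_refinements]
  intro T x hx
  have hx' : (x ≫ kernel.ι (u ≫ v)) ≫ u = 0 := by
    have h := congrArg (· ≫ kernel.ι v) hx
    simp only [Category.assoc, kernel.lift_ι, zero_comp] at h
    rwa [Category.assoc]
  refine ⟨T, 𝟙 T, inferInstance, kernel.lift u (x ≫ kernel.ι (u ≫ v)) hx', ?_⟩
  rw [← cancel_mono (kernel.ι (u ≫ v)), Category.id_comp, Category.assoc, kernel.lift_ι, kernel.lift_ι]

end Abstract

variable {k : Type u} [Field k] {n : ℕ}

local notation "PP" => Proj (CohB1.polyGrading n k)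

attribute [local instance 10000] projOver

/-- Twisting by powers of `O(1)`. -/
theorem nonempty_pw_iso (M : (Proj (CohB1.polyGrading n k)).Modules) (a : ℤ) (j : ℕ) (b : ℤ) (hb : a + (j : ℤ) = b) :
    Nonempty (HilbPoly.pw (Twist.twist (CohB1.polyGrading n k) 1) ((twF (k := k) (n := n) a).obj M) j ≅
      (twF (k := k) (n := n) b).obj M) := by
  obtain ⟨e⟩ := twist_tensorPow_iso (ProjRegular.coords k n) ProjRegular.coords_mem ProjRegular.coords_cover j
  obtain ⟨e'⟩ := twF_twF_iso (k := k) (n := n) M a j b hb.symm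
  exact ⟨PicGrp.tensorModIso (Iso.refl _) e.symm ≪≫ e'⟩

/-- The Euler characteristic of all twists is a polynomial. -/
theorem exists_chi_poly {M : (Proj (CohB1.polyGrading n k)).Modules} (hM : Coh.IsCoh M) :
    ∃ Q : Polynomial ℚ, ∀ t : ℤ, (chi (k := k) (n := n) M t : ℚ) = Q.eval (t : ℚ) := by
  haveI : IsNoetherian PP := Proj16.isNoetherian_proj _
  haveI := isProper_over (k := k) (n := n)
  have hL : PicF.IsInvertible (Twist.twist (CohB1.polyGrading n k) 1) :=
    PnCoh.Finite.isInvertible_twist (ProjRegular.coords k n) ProjRegular.coords_mem ProjRegular.coords_cover 1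
  have hdim : ∀ N : (Proj (CohB1.polyGrading n k)).Modules,
      topologicalKrullDim ↥(CohB1.support N) ≤ (n : WithBot ℕ∞) := fun N => by
    refine le_trans (Topology.IsInducing.subtypeVal.topologicalKrullDim_le) ?_
    show topologicalKrullDim ↥(CohB1.ProjSpace n k) ≤ _
    rw [S10829.result k n]
  have key : ∀ a : ℕ, ∃ Q : Polynomial ℚ,
      ∀ j : ℕ, (chi (k := k) (n := n) M (-(a : ℤ) + j) : ℚ) = Q.eval (j : ℚ) := fun a => by
    obtain ⟨Q, hQ, -, -⟩ := HilbPoly.exists_poly (HilbPoly.additive_euler k) hL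
      (isCoh_tw hM (-(a : ℤ))) (hdim _)
    refine ⟨Q, fun j => ?_⟩
    obtain ⟨e⟩ := nonempty_pw_iso M (-(a : ℤ)) j _ rfl
    rw [← hQ j, chi_eq, ← CurveCohLib.euler_congr (k := k) e]
  choose Q hQ using key
  refine ⟨Q 0, fun t => ?_⟩
  obtain ⟨a, ha⟩ : ∃ a : ℕ, 0 ≤ t + a := ⟨(-t).toNat, by omega⟩
  have hrel : Q a = (Q 0).comp (Polynomial.X - Polynomial.C (a : ℚ)) := HilbPoly.poly_ext a fun j hj => by
    rw [← hQ a j, Polynomial.eval_comp, Polynomial.eval_sub, Polynomial.eval_X, Polynomial.eval_C,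
      ← Nat.cast_sub hj, ← hQ 0 (j - a), Nat.cast_sub hj, Nat.cast_zero, neg_zero, zero_add]
    rw [show -(a : ℤ) + (j : ℤ) = (j : ℤ) - a by ring]
  obtain ⟨j, hj⟩ : ∃ j : ℕ, (j : ℤ) = t + a := ⟨(t + a).toNat, Int.toNat_of_nonneg ha⟩
  have hjq : (j : ℚ) = (t : ℚ) + (a : ℚ) := by exact_mod_cast hj
  have h := hQ a j
  rw [hrel, Polynomial.eval_comp, Polynomial.eval_sub, Polynomial.eval_X, Polynomial.eval_C, hjq,
    add_sub_cancel_right, show -(a : ℤ) + (j : ℤ) = t by omega] at h
  exact h

/-- A polynomial giving the Euler characteristics of the positive twists gives all of them. -/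
theorem chi_eq_of_nat {M : (Proj (CohB1.polyGrading n k)).Modules} (hM : Coh.IsCoh M) {P : Polynomial ℚ}
    (h : ∀ j : ℕ, (chi (k := k) (n := n) M (j : ℤ) : ℚ) = P.eval (j : ℚ)) (t : ℤ) :
    (chi (k := k) (n := n) M t : ℚ) = P.eval (t : ℚ) := by
  obtain ⟨Q, hQ⟩ := exists_chi_poly hM
  have : Q = P := HilbPoly.poly_ext 0 fun j _ => by
    rw [← h j, hQ, Int.cast_natCast]
  rw [hQ, this]

/-- Serre vanishing as regularity. -/
theorem exists_isMRegular {M : (Proj (CohB1.polyGrading n k)).Modules} (hM : Coh.IsCoh M) :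
    ∃ m : ℤ, Curv2.IsMRegular k n M m := by
  choose d hd using fun i : ℕ => RegDescent.exists_vanishing_twF (k := k) (n := n) hM (i + 1) i.succ_pos
  refine ⟨∑ i ∈ Finset.range n, |d i| + n, fun q hq hqn => ?_⟩
  obtain ⟨i, rfl⟩ : ∃ i, q = i + 1 := ⟨q - 1, by omega⟩
  refine hd i _ ?_
  have h1 : |d i| ≤ ∑ j ∈ Finset.range n, |d j| :=
    Finset.single_le_sum (fun j _ => abs_nonneg (d j)) (Finset.mem_range.2 (by omega))
  have h2 := le_abs_self (d i)
  omega

/-- In a short exact sequence the third term is regular. -/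
theorem isMRegular_X₃ {S : ShortComplex (Proj (CohB1.polyGrading n k)).Modules} (hS : S.ShortExact)
    (h₁ : Coh.IsCoh S.X₁) (h₂ : Coh.IsCoh S.X₂) {a b m : ℤ} (ha : Curv2.IsMRegular k n S.X₁ a)
    (hb : Curv2.IsMRegular k n S.X₂ b) (hbm : b ≤ m) (ham : a ≤ m + 1) : Curv2.IsMRegular k n S.X₃ m := by
  intro q hq hqn
  exact subsingleton_HH_X₃ (RegDescent.twSeq_exact (ProjRegular.coords k n) ProjRegular.coords_mem
      ProjRegular.coords_cover hS (m - (q : ℤ))) q
    (subsingleton_of_regular h₂ hb hq (by omega))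
    (subsingleton_of_regular h₁ ha (q := q + 1) (by omega) (by push_cast; omega))

section Closed

variable {X : Scheme.{u}} (ι : X ⟶ Proj (CohB1.polyGrading n k)) [IsClosedImmersion ι]

/-- The projection formula for natural twists. -/
theorem nonempty_push_tw (M : X.Modules) (l : ℕ) :
    Nonempty ((twF (k := k) (n := n) (l : ℤ)).obj ((Scheme.Modules.pushforward ι).obj M) ≅
      (Scheme.Modules.pushforward ι).obj (CohB1.tensorMod M (CohB1.tensorPow (PruferCoh.oneX ι) l))) :=
  PruferCoh.nonempty_push_twist (k := n) (R := k) ι l M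

/-- Kernels of quotients with given Euler characteristics: uniform regularity of the direct images. -/
theorem exists_push_bound (N : ℕ) (P : Polynomial ℚ) :
    ∃ m : ℤ, ∀ (F : X.Modules) (q : FlatMod.freeMod X N ⟶ F), Coh.IsCoh F → Epi q →
      (∀ t : ℤ, (chi (k := k) (n := n) ((Scheme.Modules.pushforward ι).obj F) t : ℚ) = P.eval (t : ℚ)) →
      Coh.IsCoh (kernel q) ∧
        Curv2.IsMRegular k n ((Scheme.Modules.pushforward ι).obj F) m ∧
        Curv2.IsMRegular k n ((Scheme.Modules.pushforward ι).obj (kernel q)) m := by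
  haveI : IsNoetherian PP := Proj16.isNoetherian_proj _
  haveI : IsLocallyNoetherian X := LocallyOfFiniteType.isLocallyNoetherian ι
  haveI : CompactSpace X := QuasiCompact.compactSpace_of_compactSpace ι
  haveI : IsNoetherian X := {}
  haveI := (Scheme.Modules.pullbackPushforwardAdjunction ι).leftAdjoint_preservesColimits
  haveI : PreservesColimitsOfShape WalkingSpan (Scheme.Modules.pushforward ι) :=
    KFlatLib.preservesColimitsOfShape_push ι _
  haveI := (Scheme.Modules.pullbackPushforwardAdjunction ι).rightAdjoint_preservesLimits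
  let ε : (Scheme.Modules.pullback ι).obj (FlatMod.freeMod PP N) ≅ FlatMod.freeMod X N :=
    PreservesCoproduct.iso (Scheme.Modules.pullback ι) _ ≪≫ Sigma.mapIso fun _ => CurveBC.unitIso ι
  let u : FlatMod.freeMod PP N ⟶ (Scheme.Modules.pushforward ι).obj (FlatMod.freeMod X N) :=
    (Scheme.Modules.pullbackPushforwardAdjunction ι).unit.app _ ≫ (Scheme.Modules.pushforward ι).map ε.hom
  have hunit := FamHom.epi_unit ι (FlatMod.freeMod PP N)
  haveI : Epi u := @epi_comp _ _ _ _ _ _ hunit _ inferInstance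
  have hXN : Coh.IsCoh (FlatMod.freeMod X N) :=
    (KZ.RankNilp.sigma_const (RefX.isCoh_unit (X := X)) N).1
  have hE := isCoh_freeMod (k := k) (n := n) N
  have hI : Coh.IsCoh (kernel u) := QCoh.isCoh_kernel hE (QCoh.isCoh_pushforward_finite ι hXN) u
  obtain ⟨mI, hmI⟩ := exists_isMRegular hI
  obtain ⟨m, hm⟩ := exists_kernel_bound.{u} n N P
  refine ⟨max (max m mI) 0, fun F q hF hq hP => ?_⟩
  haveI := hq
  have hK : Coh.IsCoh (kernel q) := QCoh.isCoh_kernel hXN hF q
  have hFp := QCoh.isCoh_pushforward_finite ι hF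
  have hKp := QCoh.isCoh_pushforward_finite ι hK
  let v := (Scheme.Modules.pushforward ι).map q
  haveI : Epi v := inferInstance
  have hG : Coh.IsCoh (kernel (u ≫ v)) := QCoh.isCoh_kernel hE hFp _
  have hGreg := hm k _ (u ≫ v) hFp (epi_comp _ _) hP
  refine ⟨hK, ?_, isMRegular_of_iso (PreservesKernel.iso (Scheme.Modules.pushforward ι) q).symm ?_⟩
  · exact isMRegular_X₃ (S := ShortComplex.mk (kernel.ι (u ≫ v)) (u ≫ v) (kernel.condition _))
      (.mk' (ShortComplex.exact_of_f_is_kernel _ (kernelIsKernel _)) inferInstance (epi_comp _ _))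
      hG hE hGreg (isMRegular_freeMod N) (by omega) (by omega)
  · exact isMRegular_X₃ (shortExact_kernelComp u v) hI hG hmI hGreg (by omega) (by omega)

/-- Vanishing on the closed subscheme. -/
theorem subsingleton_closed {M : X.Modules} (hM : Coh.IsCoh M) {m : ℤ}
    (h : Curv2.IsMRegular k n ((Scheme.Modules.pushforward ι).obj M) m) {l : ℕ} (hl : m ≤ (l : ℤ))
    (i : ℕ) (hi : 0 < i) :
    Subsingleton (Coh.HH X (CohB1.tensorMod M (CohB1.tensorPow (PruferCoh.oneX ι) l)) i) :=
  PruferCoh.subsingleton_HH_tensor (k := n) (R := k) ι l hM.1 i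
    (subsingleton_of_regular (QCoh.isCoh_pushforward_finite ι hM) h hi (by omega))

/-- Global generation on the closed subscheme. -/
theorem isGloballyGenerated_closed {M : X.Modules} (hM : Coh.IsCoh M) {m : ℤ}
    (h : Curv2.IsMRegular k n ((Scheme.Modules.pushforward ι).obj M) m) {l : ℕ} (hl : m ≤ (l : ℤ)) :
    Curv2.IsGloballyGenerated (CohB1.tensorMod M (CohB1.tensorPow (PruferCoh.oneX ι) l)) := by
  have hMp := QCoh.isCoh_pushforward_finite ι hM
  have hgg : Curv2.IsGloballyGenerated ((twF (k := k) (n := n) (l : ℤ)).obj ((Scheme.Modules.pushforward ι).obj M)) :=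
    S1647.result k n _ hMp l (isMRegular_mono hMp hl h)
  obtain ⟨e⟩ := nonempty_push_tw ι M l
  have hq : Coh.IsQCoh (CohB1.tensorMod M (CohB1.tensorPow (PruferCoh.oneX ι) l)) :=
    PruferCoh.isQCoh_tensor_twist (k := n) (R := k) ι l hM.1
  have hc := AmpleVan.isIso_counit ι hq
  exact AmpleX.isGloballyGenerated_of_iso
    (@asIso _ _ _ _ _ hc)
    (GGFF.isGloballyGenerated_pullback ι (AmpleX.isGloballyGenerated_of_iso e hgg))

/-- The Euler characteristic of a direct image. -/
theorem chi_push [X.Over (Spec (CommRingCat.of k))]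
    (hι : ι ≫ (PP ↘ Spec (CommRingCat.of k)) = X ↘ Spec (CommRingCat.of k))
    {M : X.Modules} (hM : Coh.IsQCoh M) (l : ℕ) :
    chi (k := k) (n := n) ((Scheme.Modules.pushforward ι).obj M) (l : ℤ) =
      Curv2.euler k X (CohB1.tensorMod M (CohB1.tensorPow (PruferCoh.oneX ι) l)) := by
  obtain ⟨e⟩ := nonempty_push_tw ι M l
  rw [chi_eq, CurveCohLib.euler_congr (k := k) e]
  exact AVEuler.euler_push k ι hι (PruferCoh.isQCoh_tensor_twist (k := n) (R := k) ι l hM)

end Closed

end Groth.Agent.HilbBound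

end
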