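import Groth.Agent.HilbBound.Closed
import Groth.Agent.ShStabLib.Apply
import Groth.Agent.AmpleX.Proj
import Groth.Agent.Lib.AVAmple
import Groth.Prelude.Def_W4c2simpsonmod1HP

/-!
# Harder–Narasimhan chains on projective space
-/

set_option autoImplicit false
set_option linter.style.haveILetI false
set_option linter.unusedSectionVars false
set_option backward.isDefEq.respectTransparency false
set_option backward.isDefEq.respectTransparency.types false
set_option maxHeartbeats 1000000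

universe u

open CategoryTheory CategoryTheory.Limits AlgebraicGeometry

noncomputable section

namespace Groth.Agent.HilbBound

open Groth.Agent Groth.Agent.RegEpi Groth.Agent.PnCoh.Finite StabCat

/-- A finite chain with both ends is the range of a strictly increasing series. -/
theorem exists_series {α : Type*} [PartialOrder α] {bot top : α} (hbot : ∀ a, bot ≤ a) (htop : ∀ a, a ≤ top)
    (C : Finset α) (hb : bot ∈ C) (ht : top ∈ C) (hC : IsChain (fun A B : α => A ≤ B) (↑C : Set α)) :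
    ∃ s : LTSeries α, s.head = bot ∧ s.last = top ∧ ∀ a, a ∈ C ↔ ∃ i, s i = a := by
  classical
  letI : LinearOrder {a // a ∈ C} :=
    { (inferInstance : PartialOrder {a // a ∈ C}) with
      le_total := fun a b => by
        rcases eq_or_ne a.1 b.1 with h | h
        · exact Or.inl (le_of_eq (Subtype.ext h))
        · exact hC a.2 b.2 h
      toDecidableLE := Classical.decRel _ }
  obtain ⟨m, hm⟩ : ∃ m, Fintype.card {a // a ∈ C} = m + 1 :=
    Nat.exists_eq_succ_of_ne_zero (by haveI : Nonempty {a // a ∈ C} := ⟨⟨bot, hb⟩⟩; exact Fintype.card_ne_zero)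
  let e : Fin (m + 1) ≃o {a // a ∈ C} := monoEquivOfFin _ hm
  let s : LTSeries α :=
    { length := m
      toFun := fun i => (e i).1
      step := fun i => (e.strictMono (Fin.castSucc_lt_succ (i := i)) : _) }
  refine ⟨s, le_antisymm ?_ (hbot _), le_antisymm (htop _) ?_, fun a => ⟨fun ha => ?_, ?_⟩⟩
  · obtain ⟨i, hi⟩ := e.surjective ⟨bot, hb⟩
    have h : e 0 ≤ e i := e.monotone (Fin.zero_le i)
    rw [hi] at h
    exact h
  · obtain ⟨i, hi⟩ := e.surjective ⟨top, ht⟩
    have h : e i ≤ e (Fin.last m) := e.monotone (Fin.le_last i)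
    rw [hi] at h
    exact h
  · obtain ⟨i, hi⟩ := e.surjective ⟨a, ha⟩
    exact ⟨i, congrArg Subtype.val hi⟩
  · rintro ⟨i, rfl⟩
    exact (e i).2

/-- Neighbours in a series are exactly the covering pairs of its range. -/
theorem exists_step {α : Type*} [PartialOrder α] (s : LTSeries α) {i j : Fin (s.length + 1)} (h : s i < s j)
    (hcov : ∀ l, ¬ (s i < s l ∧ s l < s j)) : ∃ t : Fin s.length, s t.castSucc = s i ∧ s t.succ = s j := by
  have hij : i < j := by
    rcases lt_trichotomy i j with h' | h' | h'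
    · exact h'
    · exact absurd h (h' ▸ lt_irrefl _)
    · exact absurd (s.strictMono h') (lt_asymm h)
  have hi : i.val < s.length := lt_of_lt_of_le hij (Nat.le_of_lt_succ j.2)
  refine ⟨⟨i.val, hi⟩, rfl, ?_⟩
  rcases (show (⟨i.val, hi⟩ : Fin s.length).succ ≤ j from hij).lt_or_eq with h' | h'
  · exact absurd ⟨s.strictMono (show i < (⟨i.val, hi⟩ : Fin s.length).succ from Nat.lt_succ_self i.val), s.strictMono h'⟩ (hcov _)
  · rw [h']

/-- Nothing lies strictly between neighbours. -/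
theorem not_between {α : Type*} [PartialOrder α] (s : LTSeries α) (i : Fin s.length) (l : Fin (s.length + 1)) :
    ¬ (s i.castSucc < s l ∧ s l < s i.succ) := by
  rintro ⟨h1, h2⟩
  have h1' : i.castSucc < l := (s.strictMono.lt_iff_lt).1 h1
  have h2' : l < i.succ := (s.strictMono.lt_iff_lt).1 h2
  exact absurd (Fin.lt_def.1 h2') (not_lt.2 (Nat.succ_le_of_lt (Fin.lt_def.1 h1')))

theorem redLE_w4_iff {d : ℕ} {ψ φ : Polynomial ℚ} (hψ : 0 < alpha d ψ) (hφ : 0 < alpha d φ) :
    W4c2simpsonmod1.RedLE d ψ φ ↔ StabCat.RedLE d ψ φ := by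
  have key : ∀ x : ℚ, ψ.eval x / W4c2simpsonmod1.rankOf d ψ ≤ φ.eval x / W4c2simpsonmod1.rankOf d φ ↔
      (alpha d φ • ψ).eval x ≤ (alpha d ψ • φ).eval x := fun x => by
    show ψ.eval x / alpha d ψ ≤ φ.eval x / alpha d φ ↔ _
    rw [div_le_div_iff₀ hψ hφ, Polynomial.eval_smul, Polynomial.eval_smul, smul_eq_mul, smul_eq_mul,
      mul_comm (ψ.eval x), mul_comm (φ.eval x)]
  constructor
  · rintro ⟨N, hN⟩
    exact ⟨N.toNat, fun m hm => (key _).1 (by exact_mod_cast hN (m : ℤ) (by omega))⟩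
  · rintro ⟨N, hN⟩
    refine ⟨(N : ℤ), fun m hm => ?_⟩
    obtain ⟨j, rfl⟩ : ∃ j : ℕ, m = (j : ℤ) := ⟨m.toNat, by omega⟩
    rw [Int.cast_natCast]
    exact (key _).2 (hN j (by omega))

theorem redLT_w4_iff {d : ℕ} {ψ φ : Polynomial ℚ} (hψ : 0 < alpha d ψ) (hφ : 0 < alpha d φ) :
    W4c2simpsonmod1.RedLT d ψ φ ↔ StabCat.RedLT d ψ φ := by
  have key : ∀ x : ℚ, ψ.eval x / W4c2simpsonmod1.rankOf d ψ < φ.eval x / W4c2simpsonmod1.rankOf d φ ↔
      (alpha d φ • ψ).eval x < (alpha d ψ • φ).eval x := fun x => by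
    show ψ.eval x / alpha d ψ < φ.eval x / alpha d φ ↔ _
    rw [div_lt_div_iff₀ hψ hφ, Polynomial.eval_smul, Polynomial.eval_smul, smul_eq_mul, smul_eq_mul,
      mul_comm (ψ.eval x), mul_comm (φ.eval x)]
  constructor
  · rintro ⟨N, hN⟩
    exact ⟨N.toNat, fun m hm => (key _).1 (by exact_mod_cast hN (m : ℤ) (by omega))⟩
  · rintro ⟨N, hN⟩
    refine ⟨(N : ℤ), fun m hm => ?_⟩
    obtain ⟨j, rfl⟩ : ∃ j : ℕ, m = (j : ℤ) := ⟨m.toNat, by omega⟩
    rw [Int.cast_natCast]
    exact (key _).2 (hN j (by omega))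

section Proj

variable {k : Type u} [Field k] {n d : ℕ}

local notation "PS" => CohB1.ProjSpace n k

theorem isAmple_O1 : CohB1.IsAmple (Twist.twistProjSpace n k 1) := by
  classical
  let T : Finset (MvPolynomial (Fin (n + 1)) k) := Finset.univ.image MvPolynomial.X
  refine AmpleX.isAmple_twist_one _ T (fun g hg => ?_) ?_
  · obtain ⟨i, -, rfl⟩ := Finset.mem_image.1 hg
    exact ProjPt.X_mem i
  · refine Proj.iSup_basicOpen_eq_top _ _ ((SegreX.irrelevant_le_span n k).trans ?_)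
    refine Ideal.span_mono ?_
    rintro _ ⟨i, rfl⟩
    exact ⟨⟨_, Finset.mem_image.2 ⟨i, Finset.mem_univ _, rfl⟩⟩, rfl⟩

theorem euler_twist_nat (M : (CohB1.ProjSpace n k).Modules) (j : ℕ) :
    Curv2.euler k PS (ShStab.twist (CohB1.ProjSpace n k) (Twist.twistProjSpace n k 1) M j) =
      chi (k := k) (n := n) M (j : ℤ) := by
  obtain ⟨e⟩ := twist_tensorPow_iso (ProjRegular.coords k n) ProjRegular.coords_mem ProjRegular.coords_cover j
  exact CurveCohLib.euler_congr (k := k) (PicGrp.tensorModIso (Iso.refl M) e.symm)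

/-- The Hilbert polynomial in the sense of all integral twists. -/
theorem isHilbPoly_iff {M : (CohB1.ProjSpace n k).Modules} (hM : Coh.IsCoh M) {P : Polynomial ℚ} :
    ShStab.IsHilbPoly k PS (Twist.twistProjSpace n k 1) M P ↔
      ∀ m : ℤ, (Curv2.euler k PS (CohB1.tensorMod M (Twist.twistProjSpace n k m)) : ℚ) = P.eval (m : ℚ) := by
  constructor
  · intro h
    exact chi_eq_of_nat (k := k) (n := n) hM fun j => by rw [← euler_twist_nat]; exact h j
  · intro h j
    rw [euler_twist_nat]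
    exact_mod_cast h (j : ℤ)

theorem dim_eq {F : (CohB1.ProjSpace n k).Modules} (hp : ShStab.IsPure PS F d) (hc : Coh.IsCoh F) (h0 : ¬ IsZero F) :
    topologicalKrullDim ↥(CohB1.support F) = (d : WithBot ℕ∞) :=
  hp F (𝟙 F) inferInstance hc h0

theorem not_isZero_of_dim {F : (CohB1.ProjSpace n k).Modules} (hc : Coh.IsCoh F)
    (h : topologicalKrullDim ↥(CohB1.support F) = (d : WithBot ℕ∞)) : ¬ IsZero F := fun hz => by
  haveI : IsEmpty ↥(CohB1.support F) := ⟨fun x => by
    exact Set.eq_empty_iff_forall_notMem.1 (QCoh.support_eq_empty_of_isZero hz hc.1) _ x.2⟩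
  haveI : IsEmpty (TopologicalSpace.IrreducibleCloseds ↥(CohB1.support F)) :=
    ⟨fun A => IsEmpty.false A.isIrreducible'.1.some⟩
  rw [topologicalKrullDim, Order.krullDim_eq_bot] at h
  exact WithBot.natCast_ne_bot d h.symm

section Chain

variable {E : (CohB1.ProjSpace n k).Modules}

local notation "SSid" F:max => ShStabLib.SS k (Twist.twistProjSpace n k 1) (ShStabLib.Tr.id d) F

/-- The semistability clause of the chain. -/
theorem ss_iff {F : (CohB1.ProjSpace n k).Modules} (hc : Coh.IsCoh F) :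
    SSid F ↔ ((topologicalKrullDim ↥(CohB1.support F) = (d : WithBot ℕ∞) ∧
      ∀ (G : (CohB1.ProjSpace n k).Modules) (ι : G ⟶ F), Mono ι → Coh.IsCoh G → ¬ IsZero G →
        topologicalKrullDim ↥(CohB1.support G) = (d : WithBot ℕ∞)) ∧
      ∀ (G : (CohB1.ProjSpace n k).Modules) (ι : G ⟶ F), Mono ι → Coh.IsCoh G → ¬ IsZero G →
        ∀ φ ψ : Polynomial ℚ,
          (∀ m : ℤ, (Curv2.euler k PS (CohB1.tensorMod F (Twist.twistProjSpace n k m)) : ℚ) = φ.eval (m : ℚ)) →
          (∀ m : ℤ, (Curv2.euler k PS (CohB1.tensorMod G (Twist.twistProjSpace n k m)) : ℚ) = ψ.eval (m : ℚ)) →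
          W4c2simpsonmod1.RedLE d ψ φ) := by
  haveI : IsProper (PS ↘ Spec (CommRingCat.of k)) := PnCoh.Chow.isProper_toSpec n k
  have hL := isAmple_O1 (k := k) (n := n)
  constructor
  · intro h
    refine ⟨⟨dim_eq h.pure hc h.ne, h.pure⟩, fun G ι hι hG hG0 φ ψ hφ hψ => ?_⟩
    haveI := hι
    have hTG := ShStabLib.Tame.of_mono h.tame hG ι
    rw [← ShStabLib.hp_eq hL h.tame ((isHilbPoly_iff hc).2 hφ), ← ShStabLib.hp_eq hL hTG ((isHilbPoly_iff hG).2 hψ)]
    have hα := ShStabLib.hp_alpha_pos (k := k) hL hG (ShStabLib.isPure_mono h.pure ι) hG0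
    exact (redLE_w4_iff hα (h.alpha_pos' hL)).2 (((ShStabLib.Tr.id d).redLE_iff hα (h.alpha_pos' hL)).2
      (h.le G ι hι hG hG0))
  · rintro ⟨⟨hdim, hpure⟩, hss⟩
    have h0 := not_isZero_of_dim hc hdim
    have hT := ShStabLib.tame_of_pure (d := d) hpure hc
    refine ⟨hc, h0, hpure, fun G ι hι hG hG0 => ?_⟩
    haveI := hι
    have hTG := ShStabLib.Tame.of_mono hT hG ι
    have hα := ShStabLib.hp_alpha_pos (k := k) hL hG (ShStabLib.isPure_mono hpure ι) hG0
    have hα' := ShStabLib.hp_alpha_pos (k := k) hL hc hpure h0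
    exact ((ShStabLib.Tr.id d).redLE_iff hα hα').1 ((redLE_w4_iff hα hα').1 (hss G ι hι hG hG0 _ _
      ((isHilbPoly_iff hc).1 (ShStabLib.hp_spec (k := k) hL hT)) ((isHilbPoly_iff hG).1 (ShStabLib.hp_spec (k := k) hL hTG))))

/-- The slope clause of the chain. -/
theorem lt_iff {F G : (CohB1.ProjSpace n k).Modules} (hF : SSid F) (hG : SSid G) :
    ShStabLib.sl k (Twist.twistProjSpace n k 1) (ShStabLib.Tr.id d) G < ShStabLib.sl k (Twist.twistProjSpace n k 1) (ShStabLib.Tr.id d) F ↔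
      ∀ ψ ψ' : Polynomial ℚ,
        (∀ m : ℤ, (Curv2.euler k PS (CohB1.tensorMod F (Twist.twistProjSpace n k m)) : ℚ) = ψ.eval (m : ℚ)) →
        (∀ m : ℤ, (Curv2.euler k PS (CohB1.tensorMod G (Twist.twistProjSpace n k m)) : ℚ) = ψ'.eval (m : ℚ)) →
        W4c2simpsonmod1.RedLT d ψ' ψ := by
  haveI : IsProper (PS ↘ Spec (CommRingCat.of k)) := PnCoh.Chow.isProper_toSpec n k
  have hL := isAmple_O1 (k := k) (n := n)
  have h1 := hF.alpha_pos' hL
  have h2 := hG.alpha_pos' hL
  constructor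
  · intro h ψ ψ' hψ hψ'
    rw [← ShStabLib.hp_eq hL hF.tame ((isHilbPoly_iff hF.coh).2 hψ), ← ShStabLib.hp_eq hL hG.tame ((isHilbPoly_iff hG.coh).2 hψ')]
    exact (redLT_w4_iff h2 h1).2 (((ShStabLib.Tr.id d).redLT_iff h2 h1).2 h)
  · intro h
    exact ((ShStabLib.Tr.id d).redLT_iff h2 h1).1 ((redLT_w4_iff h2 h1).1 (h _ _
      ((isHilbPoly_iff hF.coh).1 (ShStabLib.hp_spec (k := k) hL hF.tame)) ((isHilbPoly_iff hG.coh).1 (ShStabLib.hp_spec (k := k) hL hG.tame))))

/-- The members of a Harder–Narasimhan filtration are coherent. -/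
theorem isCoh_member {s : LTSeries (Subobject E)} (hE : Coh.IsCoh E)
    (hs : ShStabLib.IsHN k (Twist.twistProjSpace n k 1) (ShStabLib.Tr.id d) E s) (i : Fin (s.length + 1)) :
    Coh.IsCoh ((s i : Subobject E) : (CohB1.ProjSpace n k).Modules) := by
  haveI : IsProper (PS ↘ Spec (CommRingCat.of k)) := PnCoh.Chow.isProper_toSpec n k
  haveI : IsNoetherian PS := CurveCohLib.isNoetherian_of_proper (k := k)
  induction i using Fin.induction with
  | zero =>
    have hz : IsZero ((s 0 : Subobject E) : (CohB1.ProjSpace n k).Modules) := by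
      rw [show s 0 = ⊥ from hs.head]; exact (isZero_zero _).of_iso Subobject.botCoeIsoZero
    exact HilbPoly.isCoh_of_iso (IsZero.iso (isZero_kernel_of_mono (𝟙 E)) hz) (QCoh.isCoh_kernel hE hE (𝟙 E))
  | succ i ih =>
    have hSE : (ShortComplex.mk (Subobject.ofLE (s i.castSucc) (s i.succ) (s.step i).le) (cokernel.π _)
        (cokernel.condition _)).ShortExact :=
      .mk' (ShortComplex.exact_of_g_is_cokernel _ (cokernelIsCokernel _)) inferInstance inferInstance
    exact HilbPoly.mu_extension.isCoh_ext hSE ih (hs.ss i).coh (QCoh.isQCoh_X₂ hSE ih.1 (hs.ss i).coh.1)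

end Chain

end Proj

end Groth.Agent.HilbBound

end
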