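import Groth.Agent.HilbBound.Closed
import Groth.Agent.Lib.Euler
import Groth.Agent.HilbBound.HNChain

/-!
# A lower bound for the slope of a quotient of a regular sheaf
-/

set_option autoImplicit false
set_option linter.style.haveILetI false
set_option linter.unusedSectionVars false
set_option backward.isDefEq.respectTransparency false
set_option backward.isDefEq.respectTransparency.types false
set_option maxHeartbeats 1000000

universe u

open CategoryTheory CategoryTheory.Limits AlgebraicGeometry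

noncomputable section

namespace Groth.Agent.HilbBound

open Groth.Agent Groth.Agent.RegEpi Groth.Agent.PnCoh.Finite

section Poly

open Polynomial

/-- The two top coefficients of a difference polynomial. -/
theorem alpha_diff {Q : ℚ[X]} {e : ℕ} (h : Q.natDegree ≤ e + 2) :
    StabCat.alpha (e + 1) (Q - Q.comp (X - C 1)) = StabCat.alpha (e + 2) Q ∧
      StabCat.alpha e (Q - Q.comp (X - C 1)) = StabCat.alpha (e + 1) Q - StabCat.alpha (e + 2) Q / 2 := by
  have hc : ∀ j, (Q.comp (X - C 1)).coeff j = (hasseDeriv j Q).eval (-1) := fun j => by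
    rw [← taylor_coeff, taylor_apply, map_neg, sub_eq_add_neg]
  have hd : ∀ j m, Q.natDegree ≤ j + m → (hasseDeriv j Q).natDegree < m + 1 := fun j m hjm =>
    Nat.lt_succ_of_le ((natDegree_hasseDeriv_le Q j).trans (by omega))
  have h1 : (Q.comp (X - C 1)).coeff (e + 1) = Q.coeff (e + 1) - ((e : ℚ) + 2) * Q.coeff (e + 2) := by
    rw [hc, eval_eq_sum_range' (hd (e + 1) 1 (by omega)), Finset.sum_range_succ, Finset.sum_range_one,
      hasseDeriv_coeff, hasseDeriv_coeff, Nat.zero_add, Nat.choose_self,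
      show 1 + (e + 1) = e + 2 by omega, Nat.choose_succ_self_right (e + 1)]
    push_cast
    ring
  have h2 : (Q.comp (X - C 1)).coeff e =
      Q.coeff e - ((e : ℚ) + 1) * Q.coeff (e + 1) + ((e : ℚ) + 2) * ((e : ℚ) + 1) / 2 * Q.coeff (e + 2) := by
    rw [hc, eval_eq_sum_range' (hd e 2 (by omega)), Finset.sum_range_succ, Finset.sum_range_succ,
      Finset.sum_range_one, hasseDeriv_coeff, hasseDeriv_coeff, hasseDeriv_coeff, Nat.zero_add, Nat.choose_self,
      show 1 + e = e + 1 by omega, Nat.choose_succ_self_right e, show 2 + e = e + 2 by omega,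
      ← Nat.choose_symm (show e ≤ e + 2 by omega), show e + 2 - e = 2 by omega, Nat.cast_choose_two]
    push_cast
    ring
  constructor
  · simp only [StabCat.alpha, coeff_sub, h1, Nat.factorial_succ]
    push_cast
    ring
  · simp only [StabCat.alpha, coeff_sub, h2, Nat.factorial_succ]
    push_cast
    ring

end Poly

variable {k : Type u} [Field k] {n : ℕ}

local notation "PP" => Proj (CohB1.polyGrading n k)

attribute [local instance 10000] projOver

/-- The support of the cokernel of a section avoiding the associated points. -/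
theorem dimLT_quotient {M : (Proj (CohB1.polyGrading n k)).Modules} (hM : Coh.IsCoh M)
    (s : Coh.structureModule PP ⟶ Twist.twist (CohB1.polyGrading n k) 1)
    (hs : ∀ x, Curv2.IsWeakAssPoint M x → x ∈ CohB1.genLocus (Twist.twist (CohB1.polyGrading n k) 1) s)
    {d : ℕ} (hd : HilbPoly.DimLT M (d + 1)) : HilbPoly.DimLT ((twF (-1)).obj (cokernel (mu s M))) d := by
  haveI : IsNoetherian PP := Proj16.isNoetherian_proj _
  have hC : Coh.IsCoh ((twF (-1)).obj (cokernel (mu s M))) :=
    isCoh_tw (QCoh.isCoh_cokernel hM.1 (isCoh_tw hM 1) _) _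
  have hsupp := fun (x : PP) (hx : x ∈ CohB1.support ((twF (-1)).obj (cokernel (mu s M)))) =>
    support_cokernel_mu s hM hx
  refine dim_lt_of_avoid (QCoh.isClosed_support_of_isFT hM.1 hM.2)
    (QCoh.isClosed_support_of_isFT hC.1 hC.2) (fun x hx => (hsupp x hx).1) (fun y hy hmax hyB => ?_) hd
  exact (hsupp y hyB).2 (hs y (AssPtX.isWeakAssPoint_of_maximal hM.1 hy hmax))

/-- Cohomology vanishes above the dimension of the support. -/
theorem subsingleton_above [Infinite k] : ∀ (d : ℕ) {M : (Proj (CohB1.polyGrading n k)).Modules}, Coh.IsCoh M →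
    HilbPoly.DimLT M (d + 1) → ∀ q : ℕ, d < q → ∀ t : ℤ, Subsingleton (Coh.HH PP ((twF t).obj M) q)
  | 0, M, hM, hd, q, hq, t =>
    (Euler.good_of_dim_le_zero (k := k) (isCoh_tw hM t)
      ((H23.TopDim.dim_le_dim_of_subset (HilbPoly.support_tensor_subset _ _)).trans
        (HilbPoly.le_of_lt_succ hd))).1 q hq
  | d + 1, M, hM, hd, q, hq, t => by
    haveI : IsNoetherian PP := Proj16.isNoetherian_proj _
    obtain ⟨q, rfl⟩ : ∃ p, q = p + 1 := ⟨q - 1, by omega⟩
    obtain ⟨s, hs⟩ := exists_sec_avoiding (k := k) (n := n) {x : PP | Curv2.IsWeakAssPoint M x} (finite_weakAss hM)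
    haveI : Mono (mu s M) := mono_mu s hM hs
    have hC := subsingleton_above d (isCoh_tw (QCoh.isCoh_cokernel hM.1 (isCoh_tw hM 1) (mu s M)) (-1))
      (dimLT_quotient hM s hs hd) q (by omega)
    obtain ⟨d₀, hd₀⟩ := RegDescent.exists_vanishing_twF (k := k) (n := n) hM (q + 1) (by omega)
    have hstep : ∀ (a : ℕ) (j : ℤ), d₀ ≤ j + a → Subsingleton (Coh.HH PP ((twF j).obj M) (q + 1)) := by
      intro a
      induction a with
      | zero => intro j h; exact hd₀ j (by simpa using h)
      | succ a ih =>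
        intro j h
        have hS := RegDescent.twSeq_exact (ProjRegular.coords k n) ProjRegular.coords_mem ProjRegular.coords_cover
          (S := ShortComplex.mk (mu s M) (cokernel.π _) (cokernel.condition _))
          (.mk' (ShortComplex.exact_of_g_is_cokernel _ (cokernelIsCokernel _)) inferInstance inferInstance) j
        obtain ⟨e₃⟩ := twF_twF_iso (k := k) (n := n) (cokernel (mu s M)) (-1) (j + 1) j (by ring)
        obtain ⟨e₂⟩ := twF_twF_iso (k := k) (n := n) M 1 j (j + 1) (by ring)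
        have hinj := RegDescent.HHlin_f_succ_injective (k := k) hS q
          (QCoh.subsingleton_HH_of_iso e₃ q (hC (j + 1)))
        exact @Function.Injective.subsingleton _ _ _ hinj
          (QCoh.subsingleton_HH_of_iso e₂.symm (q + 1) (ih (j + 1) (by push_cast at h; omega)))
    exact hstep (d₀ - t).toNat t (by omega)

/-- The quotient of `E → E(1)`, twisted back, has the regularity of `E`. -/
theorem isMRegular_quotient' {E : (Proj (CohB1.polyGrading n k)).Modules} (hE : Coh.IsCoh E) {ρ : ℤ}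
    (hreg : Curv2.IsMRegular k n E ρ) (μ : E ⟶ (twF 1).obj E) [Mono μ] :
    Curv2.IsMRegular k n ((twF (-1)).obj (cokernel μ)) ρ := by
  intro q hq hqn
  obtain ⟨e⟩ := twF_twF_iso (k := k) (n := n) (cokernel μ) (-1) (ρ - (q : ℤ)) (-1 + (ρ - (q : ℤ))) rfl
  refine QCoh.subsingleton_HH_of_iso e.symm q ?_
  have hS := RegDescent.twSeq_exact (ProjRegular.coords k n) ProjRegular.coords_mem ProjRegular.coords_cover
    (S := ShortComplex.mk μ (cokernel.π μ) (cokernel.condition μ))
    (.mk' (ShortComplex.exact_of_g_is_cokernel _ (cokernelIsCokernel μ)) inferInstance inferInstance)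
    (-1 + (ρ - (q : ℤ)))
  refine subsingleton_HH_X₃ hS q ?_ (subsingleton_of_regular hE hreg (q := q + 1) (by omega) (by push_cast; omega))
  obtain ⟨e'⟩ := twF_twF_iso (k := k) (n := n) E 1 (-1 + (ρ - (q : ℤ))) (1 + (-1 + (ρ - (q : ℤ)))) rfl
  exact QCoh.subsingleton_HH_of_iso e'.symm q (subsingleton_of_regular hE hreg hq (by omega))

/-- The slope of a quotient of a sheaf with one dimensional support. -/
theorem slope_base [Infinite k] (ρ : ℤ) {E F : (Proj (CohB1.polyGrading n k)).Modules} (q : E ⟶ F)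
    (hq : Epi q) (hE : Coh.IsCoh E) (hF : Coh.IsCoh F) (hreg : Curv2.IsMRegular k n E ρ)
    (hd : HilbPoly.DimLT E 2) (Q : Polynomial ℚ)
    (hQ : ∀ t : ℤ, (chi (k := k) (n := n) F t : ℚ) = Q.eval (t : ℚ)) (hdeg : Q.natDegree ≤ 1) :
    (1 - (ρ : ℚ)) * StabCat.alpha 1 Q ≤ StabCat.alpha 0 Q := by
    haveI : IsNoetherian PP := Proj16.isNoetherian_proj _
    have hK : Coh.IsCoh (kernel q) := QCoh.isCoh_kernel hE hF q
    have hdimK : HilbPoly.DimLT (kernel q) 2 :=
      HilbPoly.dimLT_of_subset (QCoh.mem_support_of_mono hK.1 hE.1 (kernel.ι q)) hd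
    have hdimF : HilbPoly.DimLT F 2 := HilbPoly.dimLT_of_subset (QCoh.support_of_epi hE.1 hF.1 q) hd
    have hS := RegDescent.twSeq_exact (ProjRegular.coords k n) ProjRegular.coords_mem ProjRegular.coords_cover
      (S := ShortComplex.mk (kernel.ι q) q (kernel.condition q))
      (.mk' (ShortComplex.exact_of_f_is_kernel _ (kernelIsKernel q)) inferInstance hq) (ρ - 1)
    have h1 : Subsingleton (Coh.HH PP ((twF (ρ - 1)).obj F) 1) := subsingleton_HH_X₃ hS 1
      (subsingleton_of_regular hE hreg le_rfl (by omega))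
      (subsingleton_above 1 hK hdimK 2 (by omega) _)
    have hh : chi (k := k) (n := n) F (ρ - 1) = (h0 F (ρ - 1) : ℤ) := by
      rw [chi_eq]
      refine euler_eq_single fun i hi => ?_
      rcases eq_or_lt_of_le hi with rfl | h
      · exact h1
      · exact subsingleton_above 1 hF hdimF i h _
    have h := hQ (ρ - 1)
    rw [hh, Int.cast_natCast, Polynomial.eval_eq_sum_range' (Nat.lt_succ_of_le hdeg), Finset.sum_range_succ,
      Finset.sum_range_one] at h
    have hn : (0 : ℚ) ≤ (h0 F (ρ - 1) : ℚ) := Nat.cast_nonneg _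
    simp only [StabCat.alpha, Nat.factorial, Nat.cast_one, pow_zero, pow_one, mul_one] at h ⊢
    push_cast at h ⊢
    nlinarith

/-- The induction step of the slope bound. -/
theorem slope_step [Infinite k] (ρ : ℤ) (e : ℕ)
    (IH : ∀ {E F : (Proj (CohB1.polyGrading n k)).Modules} (q : E ⟶ F),
      Epi q → Coh.IsCoh E → Coh.IsCoh F → Curv2.IsMRegular k n E ρ → HilbPoly.DimLT E (e + 2) →
      ∀ Q : Polynomial ℚ, (∀ t : ℤ, (chi (k := k) (n := n) F t : ℚ) = Q.eval (t : ℚ)) → Q.natDegree ≤ e + 1 →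
        (1 - (ρ : ℚ) + (e : ℚ) / 2) * StabCat.alpha (e + 1) Q ≤ StabCat.alpha e Q)
    {E F : (Proj (CohB1.polyGrading n k)).Modules} (q : E ⟶ F)
    (hq : Epi q) (hE : Coh.IsCoh E) (hF : Coh.IsCoh F) (hreg : Curv2.IsMRegular k n E ρ)
    (hd : HilbPoly.DimLT E (e + 1 + 2)) (Q : Polynomial ℚ)
    (hQ : ∀ t : ℤ, (chi (k := k) (n := n) F t : ℚ) = Q.eval (t : ℚ)) (hdeg : Q.natDegree ≤ e + 1 + 1) :
    (1 - (ρ : ℚ) + ((e : ℚ) + 1) / 2) * StabCat.alpha (e + 2) Q ≤ StabCat.alpha (e + 1) Q := by
    haveI : IsNoetherian PP := Proj16.isNoetherian_proj _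
    haveI := hq
    obtain ⟨s, hs⟩ := exists_sec_avoiding (k := k) (n := n)
      ({x : PP | Curv2.IsWeakAssPoint E x} ∪ {x | Curv2.IsWeakAssPoint F x})
      ((finite_weakAss hE).union (finite_weakAss hF))
    haveI : Mono (mu s E) := mono_mu s hE fun x hx => hs x (Or.inl hx)
    haveI : Mono (mu s F) := mono_mu s hF fun x hx => hs x (Or.inr hx)
    haveI : Epi ((twF (k := k) (n := n) 1).map q) := inferInstance
    let c : cokernel (mu s E) ⟶ cokernel (mu s F) :=
      cokernel.map (mu s E) (mu s F) q ((twF 1).map q) (mulHom_naturality s q).symm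
    haveI : Epi c := by
      have hfac : cokernel.π (mu s E) ≫ c = (twF (k := k) (n := n) 1).map q ≫ cokernel.π (mu s F) := cokernel.π_desc _ _ _
      exact epi_of_epi_fac hfac
    have hCE : Coh.IsCoh (cokernel (mu s E)) := QCoh.isCoh_cokernel hE.1 (isCoh_tw hE 1) _
    have hCF : Coh.IsCoh (cokernel (mu s F)) := QCoh.isCoh_cokernel hF.1 (isCoh_tw hF 1) _
    have hreg' := isMRegular_quotient' hE hreg (mu s E)
    have hR : ∀ t : ℤ, (chi (k := k) (n := n) ((twF (-1)).obj (cokernel (mu s F))) t : ℚ) =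
        (Q - Q.comp (Polynomial.X - Polynomial.C 1)).eval (t : ℚ) := fun t => by
      rw [chi_quotient hF (mu s F), Int.cast_sub, hQ, hQ, Polynomial.eval_sub, Polynomial.eval_comp,
        Polynomial.eval_sub, Polynomial.eval_X, Polynomial.eval_C, Int.cast_sub, Int.cast_one]
    have hdim := dimLT_quotient hE s (fun x hx => hs x (Or.inl hx)) hd
    haveI : IsProper (CohB1.ProjSpace n k ↘ Spec (CommRingCat.of k)) := PnCoh.Chow.isProper_toSpec n k
    have hFc := isCoh_tw (k := k) (n := n) hCF (-1)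
    have hRdeg : (Q - Q.comp (Polynomial.X - Polynomial.C 1)).natDegree ≤ e + 1 :=
      (HilbPoly.hilb_props (k := k) (X := CohB1.ProjSpace n k) (isAmple_O1 (k := k) (n := n)).1 hFc
        (HilbPoly.dim_epi (isCoh_tw hCE (-1)) hFc ((twF (k := k) (n := n) (-1)).map c)
          (HilbPoly.le_of_lt_succ hdim)) ((isHilbPoly_iff hFc).2 hR)).1
    have ih := IH ((twF (k := k) (n := n) (-1)).map c) inferInstance (isCoh_tw hCE _)
      (isCoh_tw hCF _) hreg' hdim _ hR hRdeg
    obtain ⟨ha, hb⟩ := alpha_diff (Q := Q) (e := e) hdeg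
    rw [ha, hb] at ih
    linarith

/-- The slope of a quotient of a regular sheaf is bounded below. -/
theorem slope_bound [Infinite k] (ρ : ℤ) : ∀ (e : ℕ) {E F : (Proj (CohB1.polyGrading n k)).Modules} (q : E ⟶ F),
    Epi q → Coh.IsCoh E → Coh.IsCoh F → Curv2.IsMRegular k n E ρ → HilbPoly.DimLT E (e + 2) →
    ∀ Q : Polynomial ℚ, (∀ t : ℤ, (chi (k := k) (n := n) F t : ℚ) = Q.eval (t : ℚ)) → Q.natDegree ≤ e + 1 →
      (1 - (ρ : ℚ) + (e : ℚ) / 2) * StabCat.alpha (e + 1) Q ≤ StabCat.alpha e Q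
  | 0, E, F, q, hq, hE, hF, hreg, hd, Q, hQ, hdeg => by
    simpa using slope_base ρ q hq hE hF hreg hd Q hQ hdeg
  | e + 1, E, F, q, hq, hE, hF, hreg, hd, Q, hQ, hdeg => by
    rw [Nat.cast_succ]
    exact slope_step ρ e (slope_bound ρ e) q hq hE hF hreg hd Q hQ hdeg

end Groth.Agent.HilbBound

end
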