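import Groth.Agent.HilbBound.Free
import Groth.Agent.ASB.PnBaseChange
import Groth.Agent.CurveBC.Coh
import Groth.Agent.PPSheaf.FlatPr
import Groth.Agent.S10829

/-!
# The uniform regularity bound over an arbitrary field
-/

set_option autoImplicit false
set_option linter.style.haveILetI false
set_option linter.unusedSectionVars false
set_option backward.isDefEq.respectTransparency false
set_option backward.isDefEq.respectTransparency.types false
set_option maxHeartbeats 1000000

universe u

open CategoryTheory CategoryTheory.Limits AlgebraicGeometry TopologicalSpace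

noncomputable section

namespace Groth.Agent.HilbBound

open Groth.Agent Groth.Agent.RegEpi Groth.Agent.PnCoh.Finite Groth.Agent.H23.PicMul

section General

variable {k : Type u} [Field k] {X : Scheme.{u}} [X.Over (Spec (CommRingCat.of k))]
  {K : Type u} [Field K] [Algebra k K] {X' : Scheme.{u}}
  [X'.Over (Spec (CommRingCat.of K))] {g : X' ⟶ X}
  (hpb : IsPullback g (X' ↘ Spec (CommRingCat.of K)) (X ↘ Spec (CommRingCat.of k))
      (Spec.map (CommRingCat.ofHom (algebraMap k K))))

include hpb in
theorem euler_bc (hp : IsProper (X ↘ Spec (CommRingCat.of k))) {M : X.Modules} (hM : Coh.IsQCoh M) :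
    Curv2.euler K X' ((Scheme.Modules.pullback g).obj M) = Curv2.euler k X M := by
  haveI : CompactSpace X := QuasiCompact.compactSpace_of_compactSpace (X ↘ Spec (CommRingCat.of k))
  haveI : QuasiSeparatedSpace X := quasiSeparatedSpace_of_quasiSeparated (X ↘ Spec (CommRingCat.of k))
  exact finsum_congr fun i => by rw [CurveBC.finrank_hh k K g hpb M hM i]

include hpb in
theorem subsingleton_bc (hp : IsProper (X ↘ Spec (CommRingCat.of k))) {M : X.Modules} (hM : Coh.IsQCoh M) (i : ℕ)
    (h : Subsingleton (Coh.HH X' ((Scheme.Modules.pullback g).obj M) i)) : Subsingleton (Coh.HH X M i) := by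
  haveI : CompactSpace X := QuasiCompact.compactSpace_of_compactSpace (X ↘ Spec (CommRingCat.of k))
  haveI : QuasiSeparatedSpace X := quasiSeparatedSpace_of_quasiSeparated (X ↘ Spec (CommRingCat.of k))
  haveI := hM
  obtain ⟨e⟩ := S0034.result k K X X' g hpb M i
  haveI := h
  exact (Module.FaithfullyFlat.subsingleton_tensorProduct_iff_right k K).1 e.toEquiv.subsingleton

end General

variable {k : Type u} [Field k] {n : ℕ}

/-- An extension of the ground field respects all twists if it respects `O(1)`. -/
theorem pullback_twist {K : Type u} [Field K] (q : Proj (CohB1.polyGrading n K) ⟶ Proj (CohB1.polyGrading n k))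
    (τ : (Scheme.Modules.pullback q).obj (Twist.twist (CohB1.polyGrading n k) 1) ≅
      Twist.twist (CohB1.polyGrading n K) 1) (t : ℤ) :
    Nonempty ((Scheme.Modules.pullback q).obj (Twist.twist (CohB1.polyGrading n k) t) ≅
      Twist.twist (CohB1.polyGrading n K) t) := by
  refine cl_eq_iff.1 ?_
  have hpow : ∀ (F : Type u) [Field F] (a : ℕ), PicF.cl (Twist.twist (CohB1.polyGrading n F) (a : ℤ)) =
      PicF.cl (Twist.twist (CohB1.polyGrading n F) 1) ^ a := fun F _ a => by
    rw [← cl_tensorPow]
    exact cl_eq_iff.2 (twist_tensorPow_iso (ProjRegular.coords F n) ProjRegular.coords_mem ProjRegular.coords_cover a)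
  have hadd : ∀ (F : Type u) [Field F] (a b : ℤ), PicF.cl (Twist.twist (CohB1.polyGrading n F) a) *
      PicF.cl (Twist.twist (CohB1.polyGrading n F) b) = PicF.cl (Twist.twist (CohB1.polyGrading n F) (a + b)) :=
    fun F _ a b => by
      rw [← cl_tensor]
      exact cl_eq_iff.2 (twist_tensor_iso (ProjRegular.coords F n) ProjRegular.coords_mem ProjRegular.coords_cover a b)
  have hnat : ∀ a : ℕ, PicF.pullCl q (PicF.cl (Twist.twist (CohB1.polyGrading n k) (a : ℤ))) =
      PicF.cl (Twist.twist (CohB1.polyGrading n K) (a : ℤ)) := fun a => by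
    rw [hpow, hpow, pullCl_pow]
    exact congrArg (· ^ a) (cl_eq_iff.2 ⟨τ⟩)
  show PicF.pullCl q (PicF.cl (Twist.twist (CohB1.polyGrading n k) t)) = _
  rcases Int.eq_nat_or_neg t with ⟨a, rfl | rfl⟩
  · exact hnat a
  · have h1 : PicF.pullCl q (PicF.cl (Twist.twist (CohB1.polyGrading n k) (-(a : ℤ)))) *
        PicF.cl (Twist.twist (CohB1.polyGrading n K) (a : ℤ)) = 1 := by
      rw [← hnat a, ← pullCl_mul, hadd, neg_add_cancel, ← Nat.cast_zero, hnat 0, hpow, pow_zero]
    have h2 : PicF.cl (Twist.twist (CohB1.polyGrading n K) (a : ℤ)) *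
        PicF.cl (Twist.twist (CohB1.polyGrading n K) (-(a : ℤ))) = 1 := by
      rw [hadd, add_neg_cancel, ← Nat.cast_zero, hpow, pow_zero]
    exact left_inv_eq_right_inv h1 h2

/-- A ground field extension of projective space, with all twists. -/
theorem exists_bc (K : Type u) [Field K] [Algebra k K] :
    ∃ q : Proj (CohB1.polyGrading n K) ⟶ Proj (CohB1.polyGrading n k), Flat q ∧
      IsPullback q (Proj (CohB1.polyGrading n K) ↘ Spec (CommRingCat.of K))
        (Proj (CohB1.polyGrading n k) ↘ Spec (CommRingCat.of k))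
        (Spec.map (CommRingCat.ofHom (algebraMap k K))) ∧
      ∀ t : ℤ, Nonempty ((Scheme.Modules.pullback q).obj (Twist.twist (CohB1.polyGrading n k) t) ≅
        Twist.twist (CohB1.polyGrading n K) t) := by
  obtain ⟨q, sq, τ, -⟩ := ASB.LinProj.exists_bc_proj k K n
  haveI : Flat (Spec.map (CommRingCat.ofHom (algebraMap k K))) :=
    Flat.SpecMap_iff.2 (RingHom.flat_algebraMap_iff.2 inferInstance)
  have hq : Flat q := MorphismProperty.of_isPullback sq.flip ‹_›
  exact ⟨q, hq, sq, fun t => pullback_twist q τ t⟩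

/-- The kernels of the quotients of a free module with given Euler characteristics are uniformly regular. -/
theorem exists_kernel_bound (n r : ℕ) (P : Polynomial ℚ) :
    ∃ m : ℤ, ∀ (k : Type u) [Field k] (F : (Proj (CohB1.polyGrading n k)).Modules)
      (φ : FlatMod.freeMod (Proj (CohB1.polyGrading n k)) r ⟶ F), Coh.IsCoh F → Epi φ →
      (∀ t : ℤ, (chi (k := k) (n := n) F t : ℚ) = P.eval (t : ℚ)) → Curv2.IsMRegular k n (kernel φ) m := by
  obtain ⟨m, -, hm⟩ := exists_regularity_bound.{u} n (n + 1) (Polynomial.C (r : ℚ) * chiPoly n - P)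
    (fun j => ((r : ℤ) * Ring.choose ((j : ℤ) + n) n).toNat)
  refine ⟨m, fun k _ F φ hF hφ hP => ?_⟩
  haveI := hφ
  let K := AlgebraicClosure k
  obtain ⟨q, hq, sq, hτ⟩ := exists_bc (k := k) (n := n) K
  let PP := Proj (CohB1.polyGrading n k)
  let PK := Proj (CohB1.polyGrading n K)
  haveI : IsNoetherian PP := Proj16.isNoetherian_proj _
  haveI : IsNoetherian PK := Proj16.isNoetherian_proj _
  haveI := isProper_over (k := k) (n := n)
  haveI := (Scheme.Modules.pullbackPushforwardAdjunction q).leftAdjoint_preservesColimits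
  haveI : (Scheme.Modules.pullback q).Additive := Functor.additive_of_preserves_binary_products _
  have hE := isCoh_freeMod (k := k) (n := n) r
  have hG : Coh.IsCoh (kernel φ) := QCoh.isCoh_kernel hE hF φ
  let S : ShortComplex PP.Modules := ShortComplex.mk (kernel.ι φ) φ (kernel.condition φ)
  have hS : S.ShortExact :=
    ShortComplex.ShortExact.mk' (ShortComplex.exact_of_f_is_kernel _ (kernelIsKernel φ)) inferInstance hφ
  haveI : Flat q := hq
  haveI : PreservesFiniteLimits (Scheme.Modules.pullback q) := PPSheaf.preservesFiniteLimits_pullback q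
  haveI : Mono ((Scheme.Modules.pullback q).map (kernel.ι φ)) := Functor.map_mono _ _
  let ε : (Scheme.Modules.pullback q).obj (FlatMod.freeMod PP r) ≅ FlatMod.freeMod PK r :=
    PreservesCoproduct.iso (Scheme.Modules.pullback q) _ ≪≫ Sigma.mapIso fun _ => CurveBC.unitIso q
  have hcohG : Coh.IsCoh ((Scheme.Modules.pullback q).obj (kernel φ)) :=
    QCoh.isCoh_iff_isFP.2 (ModStLib.isFP_pullback q (QCoh.isCoh_iff_isFP.1 hG))
  have hpull : ∀ (M : PP.Modules) (t : ℤ), Nonempty ((twF (k := K) (n := n) t).obj ((Scheme.Modules.pullback q).obj M) ≅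
      (Scheme.Modules.pullback q).obj ((twF (k := k) (n := n) t).obj M)) := fun M t => by
    obtain ⟨a⟩ := H23.PicMul.pull q M (Twist.twist (CohB1.polyGrading n k) t)
    obtain ⟨b⟩ := hτ t
    exact ⟨PicGrp.tensorModIso (Iso.refl _) b.symm ≪≫ a.symm⟩
  have hreg := hm K ((Scheme.Modules.pullback q).obj (kernel φ)) (FlatMod.freeMod PK r)
    ((Scheme.Modules.pullback q).map (kernel.ι φ) ≫ ε.hom) (mono_comp _ _) hcohG (isCoh_freeMod r)
    (isMRegular_freeMod r) ?_ ?_ ?_
  · intro i hi hin
    refine subsingleton_bc sq isProper_over (isCoh_tw hG _).1 i ?_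
    obtain ⟨e⟩ := hpull (kernel φ) (m - (i : ℤ))
    exact QCoh.subsingleton_HH_of_iso e i (hreg i hi hin)
  · show topologicalKrullDim ↥(CohB1.support (FlatMod.freeMod PK r)) < _
    refine lt_of_le_of_lt (Topology.IsInducing.subtypeVal.topologicalKrullDim_le) ?_
    show topologicalKrullDim ↥(CohB1.ProjSpace n K) < _
    rw [S10829.result K n]
    exact_mod_cast Nat.lt_succ_self n
  · intro t
    obtain ⟨e⟩ := hpull (kernel φ) t
    rw [chi_eq, CurveCohLib.euler_congr (k := K) e, euler_bc sq isProper_over (isCoh_tw hG t).1, ← chi_eq]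
    have h := chi_add (k := k) (n := n) hS hG hE hF t
    dsimp only [S] at h
    rw [chi_freeMod, chi_unit] at h
    have h' : (chi (k := k) (n := n) (kernel φ) t : ℚ) =
        (r : ℚ) * ((Ring.choose (t + n) n : ℤ) : ℚ) - (chi (k := k) (n := n) F t : ℚ) := by
      have h2 : (((r : ℤ) * Ring.choose (t + n) n : ℤ) : ℚ) =
          ((chi (k := k) (n := n) (kernel φ) t + chi (k := k) (n := n) F t : ℤ) : ℚ) := congrArg _ h
      push_cast at h2
      linarith
    rw [h', hP, Polynomial.eval_sub, Polynomial.eval_mul, Polynomial.eval_C, eval_chiPoly]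
  · intro j
    have h := chi_eq_h0 (isCoh_freeMod (k := K) (n := n) r) (isMRegular_freeMod r) (j := (j : ℤ)) (by omega)
    rw [chi_freeMod, chi_unit] at h
    show h0 (FlatMod.freeMod PK r) (j : ℤ) ≤ ((r : ℤ) * Ring.choose ((j : ℤ) + n) n).toNat
    rw [h, Int.toNat_natCast]

end Groth.Agent.HilbBound

end
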