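import Groth.Agent.HilbBound.Bound
import Groth.Agent.SurfStab.FreeSub
import Groth.Agent.KZ.RankNilp
import Groth.Agent.S4466
import Mathlib.RingTheory.Binomial

/-!
# Free modules on projective space: regularity and Hilbert polynomial
-/

set_option autoImplicit false
set_option linter.style.haveILetI false
set_option linter.unusedSectionVars false
set_option backward.isDefEq.respectTransparency false
set_option backward.isDefEq.respectTransparency.types false
set_option maxHeartbeats 1000000

universe u

open CategoryTheory CategoryTheory.Limits AlgebraicGeometry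

noncomputable section

namespace Groth.Agent.HilbBound

open Groth.Agent Groth.Agent.RegEpi Groth.Agent.PnCoh.Finite Groth.Agent.H23.PicMul

variable {k : Type u} [Field k] {n : ℕ}

local notation "PP" => Proj (CohB1.polyGrading n k)

theorem isCoh_freeMod (r : ℕ) : Coh.IsCoh (FlatMod.freeMod PP r) := by
  haveI : IsNoetherian PP := Proj16.isNoetherian_proj _
  exact (KZ.RankNilp.sigma_const (RefX.isCoh_unit (X := PP)) r).1

theorem chi_freeMod (t : ℤ) : ∀ r : ℕ, chi (k := k) (n := n) (FlatMod.freeMod PP r) t =
    (r : ℤ) * chi (k := k) (n := n) (Coh.structureModule PP) t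
  | 0 => by
    rw [chi_eq, Nat.cast_zero, zero_mul]
    exact euler_eq_zero ((twF (k := k) (n := n) t).map_isZero (SurfStab.freeMod_zero_isZero PP))
  | r + 1 => by
    haveI : IsNoetherian PP := Proj16.isNoetherian_proj _
    have h := chi_add (k := k) (n := n)
      (S := ShortComplex.mk (SurfStab.firstIn PP r) (SurfStab.restOut PP r) (SurfStab.firstIn_restOut PP r))
      (SurfStab.splitting PP r).shortExact RefX.isCoh_unit (isCoh_freeMod (r + 1)) (isCoh_freeMod r) t
    dsimp only at h
    rw [chi_freeMod t r] at h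
    rw [h]
    push_cast
    ring

theorem finrank_hom_zero (d : ℕ) :
    Module.finrank k (MvPolynomial.homogeneousSubmodule (Fin (0 + 1)) k d) = 1 := by
  have := S4466.finrank_hom k 0 d
  rw [Ring.choose_zero_right] at this
  exact_mod_cast this

/-- The Euler characteristic of `O(t)`. -/
theorem chi_unit (t : ℤ) : chi (k := k) (n := n) (Coh.structureModule PP) t = Ring.choose (t + n) n := by
  obtain ⟨φ⟩ := unitIso (k := k) (n := n)
  obtain ⟨ψ⟩ := twist_tensor_iso (ProjRegular.coords k n) ProjRegular.coords_mem ProjRegular.coords_cover 0 t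
  let e : (twF t).obj (Coh.structureModule PP) ≅ Twist.twist (CohB1.polyGrading n k) t :=
    (twF t).mapIso φ ≪≫ ψ ≪≫ eqToIso (by rw [zero_add])
  rw [chi_eq, CurveCohLib.euler_congr (k := k) e]
  rcases Nat.eq_zero_or_pos n with hn | hn
  · subst hn
    rw [Ring.choose_zero_right]
    refine (euler_eq_single (k := k) (X := Proj (CohB1.polyGrading 0 k)) fun i hi => ?_).trans ?_
    · exact S0844.result k 0 t i (fun h => by omega) (fun h => by omega)
    rcases le_or_gt 0 t with ht | ht
    · obtain ⟨d, rfl⟩ := Int.eq_ofNat_of_zero_le ht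
      obtain ⟨e'⟩ := S0843.result k 0 d
      exact_mod_cast e'.finrank_eq.trans (finrank_hom_zero d)
    · obtain ⟨d, hd⟩ : ∃ d : ℕ, t = -(((0 : ℕ) : ℤ) + 1 + d) := ⟨(-t - 1).toNat, by omega⟩
      subst hd
      obtain ⟨e'⟩ := S0845.result k 0 d
      exact_mod_cast e'.finrank_eq.trans (finrank_hom_zero d)
  · refine (CurveCohLib.euler_eq_sum (k := k) (N := n + 1) ?_).trans (S4466.result k n hn t)
    exact fun i hi => S0844.result k n t i (fun h => by omega) (fun h => by omega)

/-- Free modules are `0`-regular. -/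
theorem isMRegular_freeMod (r : ℕ) : Curv2.IsMRegular k n (FlatMod.freeMod PP r) 0 := by
  intro q hq hqn
  obtain ⟨e⟩ := twF_sigma_unit_iso (k := k) (n := n) r (0 - (q : ℤ))
  exact QCoh.subsingleton_HH_of_iso e.symm q
    (subsingleton_HH_sigma_twist (k := k) (n := n) r _ q (fun h => by omega) (fun h => by omega))

/-- The Hilbert polynomial of projective space. -/
def chiPoly (n : ℕ) : Polynomial ℚ :=
  Polynomial.C ((n.factorial : ℚ)⁻¹) * (descPochhammer ℚ n).comp (Polynomial.X + Polynomial.C (n : ℚ))

theorem eval_chiPoly (n : ℕ) (t : ℤ) : (chiPoly n).eval (t : ℚ) = ((Ring.choose (t + n) n : ℤ) : ℚ) := by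
  have h := Ring.descPochhammer_eq_factorial_smul_choose (t + (n : ℤ)) n
  have h' : ((descPochhammer ℤ n).eval (t + (n : ℤ)) : ℤ) = (n.factorial : ℤ) * Ring.choose (t + (n : ℤ)) n := by
    rw [Polynomial.eval_eq_smeval, h, nsmul_eq_mul]
  have h'' : (descPochhammer ℚ n).eval ((t + (n : ℤ) : ℤ) : ℚ) =
      (((descPochhammer ℤ n).eval (t + (n : ℤ)) : ℤ) : ℚ) := by
    rw [← descPochhammer_map (Int.castRingHom ℚ) n, Polynomial.eval_map, ← eq_intCast (Int.castRingHom ℚ),
      Polynomial.eval₂_hom, eq_intCast]
  rw [chiPoly, Polynomial.eval_mul, Polynomial.eval_C, Polynomial.eval_comp, Polynomial.eval_add,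
    Polynomial.eval_X, Polynomial.eval_C, ← Int.cast_natCast (R := ℚ) n, ← Int.cast_add, h'', h', Int.cast_mul,
    Int.cast_natCast, ← mul_assoc, inv_mul_cancel₀ (by exact_mod_cast n.factorial_ne_zero), one_mul]

end Groth.Agent.HilbBound

end
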